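import Groth.Agent.CurveExt.Extend

/-!
Unique extension of generic isomorphisms of smooth curves over a discrete valuation ring.
-/

noncomputable section

set_option autoImplicit false
set_option linter.style.haveILetI false
set_option linter.unusedSectionVars false
set_option backward.isDefEq.respectTransparency false
set_option backward.isDefEq.respectTransparency.types false

universe u

open CategoryTheory CategoryTheory.Limits AlgebraicGeometry TopologicalSpace IsLocalRing

namespace Groth.Agent.CurveExt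

attribute [local instance] fibOver

theorem eq_of_eq_on_open {X Y S : Scheme.{u}} [IsIntegral X] (g : Y ⟶ S) [IsSeparated g]
    {T : Scheme.{u}} (j : T ⟶ X) [IsOpenImmersion j] [Nonempty T] {e e' : X ⟶ Y}
    (hg : e ≫ g = e' ≫ g) (hj : j ≫ e = j ≫ e') : e = e' := by
  haveI : IsDominant j := by
    exact ⟨j.isOpenEmbedding.isOpen_range.dense (Set.range_nonempty _)⟩
  exact ext_of_isDominant_of_isSeparated g hg j hj

variable {R : Type u} [CommRing R] [IsDomain R] [IsDiscreteValuationRing R] {X Y : Scheme.{u}}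
  (f : X ⟶ Spec (CommRingCat.of R)) (g : Y ⟶ Spec (CommRingCat.of R))
  [IsIntegral X] [IsIntegral Y] [IsProper f] [Smooth f] [GeometricallyConnected f]
  [IsProper g] [Smooth g] [GeometricallyConnected g]
  (hXdim : ∀ s : ↥(Spec (CommRingCat.of R)), topologicalKrullDim ↥(f.fiber s) = 1)
  (hYdim : ∀ s : ↥(Spec (CommRingCat.of R)), topologicalKrullDim ↥(g.fiber s) = 1)

include hXdim hYdim in
/-- An open immersion of the generic fibre extends to the whole curve. -/
theorem exists_hom (n : ℕ) (hn : 1 ≤ n)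
    (hXgen : Curv2.genus ((Spec (CommRingCat.of R)).residueField (sη R)) (f.fiber (sη R)) = n)
    (hYgen : Curv2.genus ((Spec (CommRingCat.of R)).residueField (sη R)) (g.fiber (sη R)) = n)
    (U : X.Opens) (h : (U : Scheme.{u}) ⟶ Y) [IsOpenImmersion h]
    (hh : U.ι ≫ f = h ≫ g) (hU : (U : Set X) = f ⁻¹' {sη R}) (hrange : Set.range h = g ⁻¹' {sη R}) :
    ∃ e : X ⟶ Y, e ≫ g = f ∧ U.ι ≫ e = h := by
  have hη : genericPoint X ∈ U := hU.ge (map_genericPoint f)
  haveI : Nonempty (U : Scheme.{u}) := ⟨⟨_, hη⟩⟩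
  haveI : IsIntegral (U : Scheme.{u}) := isIntegral_of_isOpenImmersion U.ι
  choose V v hxV hvg hvh using exists_extends f g U h hh hU hrange hXdim hYdim n hn hXgen hYgen
  let 𝒰 := X.openCoverOfIsOpenCover V
    (IsOpenCover.mk (eq_top_iff.2 fun x _ => Opens.mem_iSup.2 ⟨x, hxV x⟩))
  have key : ∀ (a : X) (T : Scheme.{u}) (t : T ⟶ V a) (ht : Set.range (t ≫ (V a).ι) ⊆ Set.range U.ι),
      t ≫ v a = IsOpenImmersion.lift U.ι (t ≫ (V a).ι) ht ≫ h := by
    intro a T t ht
    let w : T ⟶ ((U ⊓ V a : X.Opens) : Scheme.{u}) := IsOpenImmersion.lift (U ⊓ V a).ι (t ≫ (V a).ι) (by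
      rintro _ ⟨p, rfl⟩
      rw [Scheme.Opens.range_ι]
      refine ⟨?_, (t p).2⟩
      have h1 := ht ⟨p, rfl⟩
      rwa [Scheme.Opens.range_ι] at h1)
    have hw : w ≫ (U ⊓ V a).ι = t ≫ (V a).ι := IsOpenImmersion.lift_fac _ _ _
    have h1 : w ≫ X.homOfLE (inf_le_right : U ⊓ V a ≤ V a) = t :=
      (cancel_mono (V a).ι).1 (by rw [Category.assoc, Scheme.homOfLE_ι, hw])
    have h2 : w ≫ X.homOfLE (inf_le_left : U ⊓ V a ≤ U) = IsOpenImmersion.lift U.ι (t ≫ (V a).ι) ht :=
      (cancel_mono U.ι).1 (by rw [Category.assoc, Scheme.homOfLE_ι, hw, IsOpenImmersion.lift_fac])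
    conv_lhs => rw [← h1, Category.assoc, hvh a, ← Category.assoc, h2]
  have hcompat : ∀ a b : X, pullback.fst (V a).ι (V b).ι ≫ v a = pullback.snd (V a).ι (V b).ι ≫ v b := by
    intro a b
    let P := pullback (V a).ι (V b).ι
    let p : P ⟶ X := pullback.fst (V a).ι (V b).ι ≫ (V a).ι
    rcases isEmpty_or_nonempty P with hP | hP
    · exact (isInitialOfIsEmpty (X := P)).hom_ext _ _
    haveI : IsIntegral P := isIntegral_of_isOpenImmersion p
    let T : P.Opens := p ⁻¹ᵁ U
    haveI : Nonempty (T : Scheme.{u}) := by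
      obtain ⟨q⟩ := hP
      have hgp : p (genericPoint P) = genericPoint X := genericPoint_eq_of_isOpenImmersion p
      exact ⟨⟨genericPoint P, show p (genericPoint P) ∈ U from hgp ▸ hη⟩⟩
    refine eq_of_eq_on_open g T.ι ?_ ?_
    · rw [Category.assoc, Category.assoc, hvg, hvg, pullback.condition_assoc]
    · have hr : Set.range ((T.ι ≫ pullback.fst (V a).ι (V b).ι) ≫ (V a).ι) ⊆ Set.range U.ι := by
        rintro _ ⟨q, rfl⟩
        rw [Scheme.Opens.range_ι]
        exact q.2
      have hr' : Set.range ((T.ι ≫ pullback.snd (V a).ι (V b).ι) ≫ (V b).ι) ⊆ Set.range U.ι := by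
        rw [Category.assoc, ← pullback.condition, ← Category.assoc]; exact hr
      rw [← Category.assoc, ← Category.assoc, key a _ _ hr, key b _ _ hr']
      congr 1
      rw [← cancel_mono U.ι, IsOpenImmersion.lift_fac, IsOpenImmersion.lift_fac, Category.assoc,
        Category.assoc, pullback.condition]
  refine ⟨𝒰.glueMorphisms v hcompat, ?_, ?_⟩
  · refine 𝒰.hom_ext _ _ fun a => ?_
    rw [← Category.assoc]
    exact (congrArg (· ≫ g) (𝒰.ι_glueMorphisms v hcompat a)).trans (hvg a)
  · let a : X := genericPoint X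
    haveI : Nonempty ((U ⊓ V a : X.Opens) : Scheme.{u}) := ⟨⟨a, hη, hxV a⟩⟩
    refine eq_of_eq_on_open g (X.homOfLE (inf_le_left : U ⊓ V a ≤ U)) ?_ ?_
    · rw [Category.assoc, ← hh]
      congr 1
      refine 𝒰.hom_ext _ _ fun b => ?_
      rw [← Category.assoc]
      exact (congrArg (· ≫ g) (𝒰.ι_glueMorphisms v hcompat b)).trans (hvg b)
    · rw [← hvh a, ← Category.assoc, Scheme.homOfLE_ι, ← X.homOfLE_ι (inf_le_right : U ⊓ V a ≤ V a),
        Category.assoc]
      exact congrArg _ (𝒰.ι_glueMorphisms v hcompat a)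

end Groth.Agent.CurveExt
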