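import Mathlib.RingTheory.Kaehler.Basic
import Mathlib.RingTheory.Filtration
import Mathlib.RingTheory.Etale.Kaehler
import Mathlib.RingTheory.DiscreteValuationRing.Basic
import Mathlib.RingTheory.UniqueFactorizationDomain.Basic
import Mathlib.RingTheory.Localization.NumDen
import Mathlib.LinearAlgebra.Dimension.Free

/-!
Regular differentials inside the differentials of a field.
-/

noncomputable section

set_option autoImplicit false
set_option linter.style.haveILetI false
set_option linter.unusedSectionVars false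

universe u

open KaehlerDifferential

namespace Groth.Agent.CurveExt

variable (R : Type u) [CommRing R] {F : Type u} [Field F] [Algebra R F]

/-- The differentials with coefficients and arguments in a subset. -/
def RegS (A : Set F) : AddSubgroup Ω[F⁄R] :=
  AddSubgroup.closure {w | ∃ a ∈ A, ∃ b ∈ A, w = a • D R F b}

theorem regS_mono {A B : Set F} (h : A ⊆ B) : RegS R A ≤ RegS R B :=
  AddSubgroup.closure_mono fun _ ⟨a, ha, b, hb, e⟩ => ⟨a, h ha, b, h hb, e⟩

theorem smul_mem_regS {A : Set F} (hmul : ∀ a ∈ A, ∀ b ∈ A, a * b ∈ A) {c : F} (hc : c ∈ A)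
    {w : Ω[F⁄R]} (hw : w ∈ RegS R A) : c • w ∈ RegS R A := by
  induction hw using AddSubgroup.closure_induction with
  | mem x hx =>
    obtain ⟨a, ha, b, hb, rfl⟩ := hx
    rw [smul_smul]
    exact AddSubgroup.subset_closure ⟨_, hmul c hc a ha, b, hb, rfl⟩
  | zero => rw [smul_zero]; exact zero_mem _
  | add x y _ _ hx hy => rw [smul_add]; exact add_mem hx hy
  | neg x _ hx => rw [smul_neg]; exact neg_mem hx

section Map

variable {R} {F' : Type u} [Field F'] [Algebra R F'] (ψ : F →ₐ[R] F')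

/-- The map on differentials induced by a map of fields. -/
def dmap : Ω[F⁄R] →+ Ω[F'⁄R] :=
  letI := ψ.toRingHom.toAlgebra
  haveI : IsScalarTower R F F' := IsScalarTower.of_algebraMap_eq fun r => (ψ.commutes r).symm
  (KaehlerDifferential.map R R F F').toAddMonoidHom

theorem dmap_smul_D (a b : F) : dmap ψ (a • D R F b) = ψ a • D R F' (ψ b) := by
  letI := ψ.toRingHom.toAlgebra
  haveI : IsScalarTower R F F' := IsScalarTower.of_algebraMap_eq fun r => (ψ.commutes r).symm
  show KaehlerDifferential.map R R F F' (a • D R F b) = _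
  rw [map_smul, map_D, ← algebraMap_smul F' a]
  rfl

theorem dmap_mem {A : Set F} {B : Set F'} (h : ∀ a ∈ A, ψ a ∈ B) {w : Ω[F⁄R]} (hw : w ∈ RegS R A) :
    dmap ψ w ∈ RegS R B := by
  induction hw using AddSubgroup.closure_induction with
  | mem x hx =>
    obtain ⟨a, ha, b, hb, rfl⟩ := hx
    rw [dmap_smul_D]
    exact AddSubgroup.subset_closure ⟨_, h a ha, _, h b hb, rfl⟩
  | zero => rw [map_zero]; exact zero_mem _
  | add x y _ _ hx hy => rw [map_add]; exact add_mem hx hy
  | neg x _ hx => rw [map_neg]; exact neg_mem hx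

/-- If residues of `A` in `B` are constants, differentials of `A` become divisible by the uniformizer. -/
theorem exists_smul_of_residue {A : Set F} {B : Set F'} (π : R) (hA : ∀ a ∈ A, ψ a ∈ B)
    (h : ∀ b ∈ A, ∃ c : R, ∃ v ∈ B, ψ b = algebraMap R F' c + algebraMap R F' π * v)
    {w : Ω[F⁄R]} (hw : w ∈ RegS R A) :
    ∃ u ∈ RegS R B, dmap ψ w = algebraMap R F' π • u := by
  induction hw using AddSubgroup.closure_induction with
  | mem x hx =>
    obtain ⟨a, ha, b, hb, rfl⟩ := hx
    obtain ⟨c, v, hv, e⟩ := h b hb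
    refine ⟨ψ a • D R F' v, AddSubgroup.subset_closure ⟨_, hA a ha, v, hv, rfl⟩, ?_⟩
    rw [dmap_smul_D, e, map_add, Derivation.map_algebraMap, zero_add, Derivation.leibniz,
      Derivation.map_algebraMap, smul_zero, add_zero, smul_comm]
  | zero => exact ⟨0, zero_mem _, by simp⟩
  | add x y _ _ hx hy =>
    obtain ⟨u, hu, hux⟩ := hx
    obtain ⟨v, hv, hvy⟩ := hy
    exact ⟨u + v, add_mem hu hv, by rw [map_add, hux, hvy, smul_add]⟩
  | neg x _ hx =>
    obtain ⟨u, hu, hux⟩ := hx
    exact ⟨-u, neg_mem hu, by rw [map_neg, hux, smul_neg]⟩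

end Map

variable (O : Type u) [CommRing O] [Algebra R O] [Algebra O F] [IsScalarTower R O F]

/-- The image of a ring, as a set. -/
abbrev imSet : Set F := Set.range (algebraMap O F)

theorem mul_mem_imSet (a : F) (ha : a ∈ imSet (F := F) O) (b : F) (hb : b ∈ imSet (F := F) O) :
    a * b ∈ imSet (F := F) O := by
  obtain ⟨a, rfl⟩ := ha
  obtain ⟨b, rfl⟩ := hb
  exact ⟨a * b, map_mul _ _ _⟩

theorem regS_imSet (w : Ω[F⁄R]) :
    w ∈ RegS R (imSet (F := F) O) ↔ w ∈ LinearMap.range (KaehlerDifferential.map R R O F) := by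
  constructor
  · intro hw
    induction hw using AddSubgroup.closure_induction with
    | mem x hx =>
      obtain ⟨_, ⟨a, rfl⟩, _, ⟨b, rfl⟩, rfl⟩ := hx
      exact ⟨a • D R O b, by rw [map_smul, map_D, algebraMap_smul]⟩
    | zero => exact zero_mem _
    | add x y _ _ hx hy => exact add_mem hx hy
    | neg x _ hx => exact neg_mem hx
  · rintro ⟨v, rfl⟩
    have hv : v ∈ Submodule.span O (Set.range (D R O)) := by
      rw [span_range_derivation]; trivial
    induction hv using Submodule.span_induction with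
    | mem x hx =>
      obtain ⟨b, rfl⟩ := hx
      rw [map_D]
      exact AddSubgroup.subset_closure ⟨1, ⟨1, map_one _⟩, _, ⟨b, rfl⟩, (one_smul _ _).symm⟩
    | zero => rw [map_zero]; exact zero_mem _
    | add x y _ _ hx hy => rw [map_add]; exact add_mem hx hy
    | smul a x _ hx =>
      rw [map_smul, ← algebraMap_smul F a]
      exact smul_mem_regS R (mul_mem_imSet O) ⟨a, rfl⟩ hx

/-- Clearing the denominators of a regular differential at a prime element. -/
theorem exists_smul_mem_of_den [IsDomain O] {q : O} (hq : Prime q) {A : Set F}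
    (hA : ∀ a ∈ A, ∃ d : O, ¬ q ∣ d ∧ algebraMap O F d * a ∈ imSet (F := F) O)
    {w : Ω[F⁄R]} (hw : w ∈ RegS R A) :
    ∃ d : O, ¬ q ∣ d ∧ algebraMap O F d • w ∈ RegS R (imSet (F := F) O) := by
  induction hw using AddSubgroup.closure_induction with
  | mem x hx =>
    obtain ⟨a, ha, b, hb, rfl⟩ := hx
    obtain ⟨d₁, h₁, a', ha'⟩ := hA a ha
    obtain ⟨d₂, h₂, b', hb'⟩ := hA b hb
    refine ⟨d₁ * d₂ * d₂, fun h => ?_, ?_⟩
    · rcases hq.dvd_or_dvd h with h | h
      · rcases hq.dvd_or_dvd h with h | h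
        · exact h₁ h
        · exact h₂ h
      · exact h₂ h
    have e : algebraMap O F d₂ • D R F b =
        D R F (algebraMap O F b') - b • D R F (algebraMap O F d₂) := by
      rw [hb', Derivation.leibniz, add_sub_cancel_right]
    have e2 : algebraMap O F (d₁ * d₂ * d₂) • a • D R F b =
        (algebraMap O F a' * algebraMap O F d₂) • D R F (algebraMap O F b') -
          (algebraMap O F a' * algebraMap O F b') • D R F (algebraMap O F d₂) := by
      rw [ha', hb', map_mul, map_mul, smul_smul,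
        show algebraMap O F d₁ * algebraMap O F d₂ * algebraMap O F d₂ * a =
          algebraMap O F d₁ * a * algebraMap O F d₂ * algebraMap O F d₂ by ring, mul_smul, e, ← hb',
        smul_sub, smul_smul]
      congr 2
      rw [hb']; ring
    rw [e2]
    exact sub_mem (AddSubgroup.subset_closure ⟨_, mul_mem_imSet O _ ⟨a', rfl⟩ _ ⟨d₂, rfl⟩, _, ⟨b', rfl⟩, rfl⟩)
      (AddSubgroup.subset_closure ⟨_, mul_mem_imSet O _ ⟨a', rfl⟩ _ ⟨b', rfl⟩, _, ⟨d₂, rfl⟩, rfl⟩)
  | zero => exact ⟨1, fun h => hq.not_unit (isUnit_of_dvd_one h), by simp⟩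
  | add x y _ _ hx hy =>
    obtain ⟨d₁, h₁, hx'⟩ := hx
    obtain ⟨d₂, h₂, hy'⟩ := hy
    refine ⟨d₁ * d₂, fun h => (hq.dvd_or_dvd h).elim h₁ h₂, ?_⟩
    rw [map_mul, smul_add]
    refine add_mem ?_ ?_
    · rw [mul_comm, mul_smul]
      exact smul_mem_regS R (mul_mem_imSet O) ⟨d₂, rfl⟩ hx'
    · rw [mul_smul]
      exact smul_mem_regS R (mul_mem_imSet O) ⟨d₁, rfl⟩ hy'
  | neg x _ hx =>
    obtain ⟨d, hd, hx'⟩ := hx
    exact ⟨d, hd, by rw [smul_neg]; exact neg_mem hx'⟩

/-- A differential regular at all height one primes of a factorial ring is regular. -/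
theorem mem_regS_of_forall_prime [IsDomain O] [UniqueFactorizationMonoid O] [IsFractionRing O F]
    [Module.Free O Ω[O⁄R]] (hrk : Module.finrank O Ω[O⁄R] = 1) (w : Ω[F⁄R])
    (h : ∀ q : O, Prime q → ∃ d : O, ¬ q ∣ d ∧ algebraMap O F d • w ∈ RegS R (imSet (F := F) O)) :
    w ∈ RegS R (imSet (F := F) O) := by
  obtain ⟨e, he0, he⟩ := finrank_eq_one_iff'.mp hrk
  let μ := KaehlerDifferential.map R R O F
  have hspan : ∀ x : Ω[F⁄R], ∃ c : F, c • μ e = x := by
    intro x
    obtain ⟨⟨v, s⟩, hv⟩ := IsLocalizedModule.surj (nonZeroDivisors O) μ x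
    obtain ⟨r, rfl⟩ := he v
    refine ⟨algebraMap O F r / algebraMap O F s, ?_⟩
    have hs : algebraMap O F (s : O) ≠ 0 :=
      IsFractionRing.to_map_ne_zero_of_mem_nonZeroDivisors s.2
    have hv' : algebraMap O F (s : O) • x = algebraMap O F r • μ e := by
      rw [algebraMap_smul, algebraMap_smul, ← map_smul]; exact hv
    rw [div_eq_inv_mul, mul_smul, ← hv', inv_smul_smul₀ hs]
  have hne : μ e ≠ 0 := fun h0 => by
    obtain ⟨s, hs⟩ := (IsLocalizedModule.eq_zero_iff (nonZeroDivisors O) μ).1 h0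
    rcases smul_eq_zero.1 (show (s : O) • e = 0 from hs) with h1 | h1
    · exact nonZeroDivisors.ne_zero s.2 h1
    · exact he0 h1
  obtain ⟨c, rfl⟩ := hspan w
  suffices c ∈ imSet (F := F) O from
    smul_mem_regS R (mul_mem_imSet O) this ((regS_imSet R O _).2 ⟨e, rfl⟩)
  obtain ⟨a, b, hab, hc⟩ := IsFractionRing.exists_reduced_fraction (A := O) c
  by_cases hb : IsUnit (b : O)
  · obtain ⟨b', hb'⟩ := hb
    refine ⟨a * ↑b'⁻¹, ?_⟩
    rw [← hc, IsLocalization.eq_mk'_iff_mul_eq, ← map_mul, ← hb', Units.inv_mul_cancel_right]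
  exfalso
  obtain ⟨q, hq, hqb⟩ := WfDvdMonoid.exists_irreducible_factor hb (nonZeroDivisors.ne_zero b.2)
  have hqp : Prime q := UniqueFactorizationMonoid.irreducible_iff_prime.1 hq
  obtain ⟨d, hd, hdw⟩ := h q hqp
  obtain ⟨v, hv⟩ := (regS_imSet R O _).1 hdw
  obtain ⟨r, rfl⟩ := he v
  have h1 : algebraMap O F d * c = algebraMap O F r := by
    refine smul_left_injective F hne ?_
    show (algebraMap O F d * c) • μ e = algebraMap O F r • μ e
    rw [mul_smul, ← hv, map_smul, algebraMap_smul]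
  have h2 : d * a = r * b := by
    refine IsFractionRing.injective O F ?_
    rw [map_mul, map_mul, ← h1, mul_assoc, ← hc, IsLocalization.mk'_spec]
  have h3 : q ∣ a := (hqp.dvd_or_dvd (h2 ▸ Dvd.dvd.mul_left hqb r : q ∣ d * a)).resolve_left hd
  exact hq.not_isUnit (hab h3 hqb)

variable [IsDomain O] [IsDiscreteValuationRing O] [IsFractionRing O F] [Module.Finite O Ω[O⁄R]]

/-- Differentials of a discrete valuation ring are separated. -/
theorem eq_zero_of_forall_pow {π : O} (hπ : ¬ IsUnit π) (w : Ω[F⁄R])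
    (h : ∀ n : ℕ, ∃ u ∈ RegS R (imSet (F := F) O), w = algebraMap O F (π ^ n) • u) : w = 0 := by
  let N := LinearMap.range (KaehlerDifferential.map R R O F)
  have hI : (Ideal.span {π} : Ideal O) ≠ ⊤ := by rwa [Ne, Ideal.span_singleton_eq_top]
  have hw : w ∈ N := by
    obtain ⟨u, hu, e⟩ := h 0
    rw [pow_zero, map_one, one_smul] at e
    exact e ▸ (regS_imSet R O u).1 hu
  have hmem : (⟨w, hw⟩ : N) ∈ (⨅ n : ℕ, Ideal.span {π} ^ n • (⊤ : Submodule O N)) := by
    rw [Submodule.mem_iInf]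
    intro n
    obtain ⟨u, hu, e⟩ := h n
    have : (⟨w, hw⟩ : N) = π ^ n • ⟨u, (regS_imSet R O u).1 hu⟩ := Subtype.ext (by
      show w = π ^ n • u
      rw [e, algebraMap_smul])
    rw [this]
    exact Submodule.smul_mem_smul (Ideal.pow_mem_pow (Ideal.mem_span_singleton_self π) n) trivial
  rw [Ideal.iInf_pow_smul_eq_bot_of_isLocalRing _ hI, Submodule.mem_bot] at hmem
  exact congrArg Subtype.val hmem

/-- Every differential becomes regular after multiplying by a power of the uniformizer. -/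
theorem exists_pow_smul_mem {π : O} (hπ : Irreducible π) (w : Ω[F⁄R]) :
    ∃ n : ℕ, algebraMap O F (π ^ n) • w ∈ RegS R (imSet (F := F) O) := by
  obtain ⟨⟨v, s⟩, hv⟩ := IsLocalizedModule.surj (nonZeroDivisors O) (KaehlerDifferential.map R R O F) w
  obtain ⟨n, hn⟩ := IsDiscreteValuationRing.associated_pow_irreducible (nonZeroDivisors.ne_zero s.2) hπ
  obtain ⟨t, ht⟩ := hn
  refine ⟨n, (regS_imSet R O _).2 ⟨(t : O) • v, ?_⟩⟩
  rw [map_smul, ← hv, ← ht, Submonoid.smul_def, smul_smul, mul_comm, algebraMap_smul]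

end Groth.Agent.CurveExt
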