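import Groth.Agent.CurveExt.Forms
import Groth.Agent.Proj16.Centre

/-!
Isomorphisms of function fields of smooth curves of positive genus over a discrete valuation ring
respect the generic point of the closed fibre.
-/

noncomputable section

set_option autoImplicit false
set_option linter.style.haveILetI false
set_option linter.unusedSectionVars false
set_option backward.isDefEq.respectTransparency false
set_option backward.isDefEq.respectTransparency.types false

universe u

open CategoryTheory CategoryTheory.Limits AlgebraicGeometry TopologicalSpace IsLocalRing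

namespace Groth.Agent.CurveExt

section Field

variable {R : Type u} [CommRing R] {F F' : Type u} [Field F] [Field F'] [Algebra R F] [Algebra R F']

theorem dmap_smul (ψ : F →ₐ[R] F') (c : F) (v : Ω[F⁄R]) : dmap ψ (c • v) = ψ c • dmap ψ v := by
  letI := ψ.toRingHom.toAlgebra
  haveI : IsScalarTower R F F' := IsScalarTower.of_algebraMap_eq fun r => (ψ.commutes r).symm
  show KaehlerDifferential.map R R F F' (c • v) = _
  rw [map_smul]
  exact (algebraMap_smul F' c _).symm

theorem dmap_symm (ψ : F ≃ₐ[R] F') (v : Ω[F⁄R]) : dmap ψ.symm.toAlgHom (dmap ψ.toAlgHom v) = v := by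
  have hv : v ∈ Submodule.span F (Set.range (KaehlerDifferential.D R F)) := by
    rw [KaehlerDifferential.span_range_derivation]; trivial
  induction hv using Submodule.span_induction with
  | mem y hy =>
    obtain ⟨b, rfl⟩ := hy
    rw [← one_smul F (KaehlerDifferential.D R F b), dmap_smul_D, dmap_smul_D]
    show ψ.symm (ψ 1) • KaehlerDifferential.D R F (ψ.symm (ψ b)) = _
    rw [ψ.symm_apply_apply, ψ.symm_apply_apply]
  | zero => simp
  | add a b _ _ ha hb => rw [map_add, map_add, ha, hb]
  | smul r a _ ha =>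
    rw [dmap_smul, dmap_smul, ha]
    exact congrArg (· • a) (ψ.symm_apply_apply r)

theorem valuation_lt_one_iff_forall {L : Type u} [Field L] (W : ValuationSubring L) {z : L} (hz : z ∈ W) :
    W.valuation z < 1 ↔ ∀ w ∈ W, z * w ≠ 1 := by
  rw [← ValuationSubring.valuation_lt_one_iff W ⟨z, hz⟩, mem_maximalIdeal, mem_nonunits_iff,
    isUnit_iff_exists_inv]
  constructor
  · intro h w hw e
    exact h ⟨⟨w, hw⟩, Subtype.ext e⟩
  · rintro h ⟨w, hw⟩
    exact h w w.2 (congrArg Subtype.val hw)

end Field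

variable {R : Type u} [CommRing R] [IsDomain R] [IsDiscreteValuationRing R] {X Y : Scheme.{u}}
  (f : X ⟶ Spec (CommRingCat.of R)) (g : Y ⟶ Spec (CommRingCat.of R))
  [IsIntegral X] [IsIntegral Y] [IsProper f] [Smooth f] [GeometricallyConnected f]
  [IsProper g] [Smooth g] [GeometricallyConnected g]
  (hXdim : ∀ s : ↥(Spec (CommRingCat.of R)), topologicalKrullDim ↥(f.fiber s) = 1)
  (hYdim : ∀ s : ↥(Spec (CommRingCat.of R)), topologicalKrullDim ↥(g.fiber s) = 1)

attribute [local instance] fibOver

theorem isUnit_st_of_sη {x : X} (hx : f x = sη R) {c : R} (hc : c ≠ 0) : IsUnit (st f x c) := by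
  obtain ⟨u, rfl⟩ := exists_asFiber f hx
  refine (isUnit_map_iff ((f.fiberι (sη R)).stalkMap u).hom (st f (f.fiberι (sη R) u) c)).1 ?_
  have hh : IsUnit (Curv2.stalkMap ((Spec (CommRingCat.of R)).residueField (sη R)) (f.fiber (sη R)) u (res (sη R) c)) :=
    (Ne.isUnit fun h => hc (Ideal.mem_bot.1 ((res_eq_zero_iff _ c).1 h))).map _
  exact (fiberι_stalkMap_st f (sη R) u c).symm ▸ hh

theorem not_isUnit_st_ξ {π : R} (hπ : Irreducible π) : ¬ IsUnit (st f (ξ f) π) := by
  rw [← mem_nonunits_iff, ← mem_maximalIdeal, maximalIdeal_ξ f hπ]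
  exact Ideal.mem_span_singleton_self _

theorem algebraMap_injective_stalk (x : X) :
    Function.Injective (algebraMap (X.presheaf.stalk x) X.functionField) :=
  IsFractionRing.injective _ _

/-- The valuation ring of the generic point of the closed fibre. -/
def valξ : ValuationSubring X.functionField :=
  { (algebraMap (X.presheaf.stalk (ξ f)) X.functionField).range with
    mem_or_inv_mem' := fun z => by
      haveI := isDVR_ξ f
      rcases ValuationRing.isInteger_or_isInteger (X.presheaf.stalk (ξ f)) z with h | h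
      · exact Or.inl h
      · exact Or.inr h }

theorem mem_valξ {z : X.functionField} : z ∈ valξ f ↔ z ∈ loc (ξ f) := Iff.rfl

theorem toFunctionField_germ (hy : g (genericPoint Y) ⤳ sS R) (c : R) :
    (Proj16.toFunctionField g hy).hom ((Spec (CommRingCat.of R)).presheaf.germ ⊤ (sS R) trivial
      ((Scheme.ΓSpecIso (CommRingCat.of R)).inv c)) = st g (genericPoint Y) c := by
  refine Eq.trans (congrArg (g.stalkMap (genericPoint Y)).hom
    (TopCat.Presheaf.germ_stalkSpecializes_apply (F := (Spec (CommRingCat.of R)).presheaf) (U := ⊤) (hy := trivial) hy _)) ?_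
  exact Scheme.Hom.germ_stalkMap_apply g ⊤ (genericPoint Y) trivial _

theorem germ_sS_surjective (a : (Spec (CommRingCat.of R)).presheaf.stalk (sS R)) :
    ∃ c : R, (Spec (CommRingCat.of R)).presheaf.germ ⊤ (sS R) trivial
      ((Scheme.ΓSpecIso (CommRingCat.of R)).inv c) = a := by
  letI : Algebra R ((Spec (CommRingCat.of R)).presheaf.stalk (sS R)) := StructureSheaf.stalkAlgebra R (sS R)
  haveI : IsLocalization.AtPrime ((Spec (CommRingCat.of R)).presheaf.stalk (sS R)) (sS R : PrimeSpectrum R).asIdeal :=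
    StructureSheaf.IsLocalization.to_stalk (CommRingCat.of R) (sS R)
  obtain ⟨⟨a', b⟩, hab⟩ := IsLocalization.surj (sS R : PrimeSpectrum R).asIdeal.primeCompl a
  have hb : IsUnit (b : R) := not_not.1 fun h => b.2 ((mem_maximalIdeal (b : R)).2 h)
  obtain ⟨b', hb'⟩ := hb
  refine ⟨a' * ↑b'⁻¹, ?_⟩
  show algebraMap R ((Spec (CommRingCat.of R)).presheaf.stalk (sS R)) (a' * ↑b'⁻¹) = a
  rw [map_mul, ← hab, mul_assoc, ← map_mul, ← hb', Units.mul_inv, map_one, mul_one]

/-- Regular forms transported along an isomorphism of function fields. -/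
abbrev FIso := letI := ffR f; letI := ffR g; Y.functionField ≃ₐ[R] X.functionField

variable {f g}

/-- The hypothesis that the isomorphism is regular on the generic fibre. -/
def GenericReg (ψ : FIso f g) : Prop :=
  letI := ffR f; letI := ffR g
  ∀ x : X, f x = sη R → ∃ y : Y, g y = sη R ∧ ∀ b ∈ loc y, ψ b ∈ loc x

include hXdim hYdim

/-- Either the isomorphism respects the generic points of the closed fibres, or forms become divisible. -/
theorem centre_step (ψ : FIso f g) (hψ : GenericReg ψ) :
    letI := ffR f; letI := ffR g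
    (∀ b ∈ loc (ξ g), ψ b ∈ loc (ξ f)) ∨
      ∀ π : R, Irreducible π → ∀ w : Ω[Y.functionField⁄R], IsForm g w →
        ∃ w' : Ω[X.functionField⁄R], IsForm f w' ∧
          dmap ψ.toAlgHom w = algebraMap R X.functionField π • w' := by
  letI := ffR f
  letI := ffR g
  haveI := isDVR_ξ f
  obtain ⟨π, hπ⟩ := IsDiscreteValuationRing.exists_irreducible R
  let V : ValuationSubring Y.functionField := (valξ f).comap (ψ : Y.functionField →+* X.functionField)
  have hV : ∀ z, z ∈ V ↔ ψ z ∈ loc (ξ f) := fun _ => Iff.rfl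
  have hst : ∀ c, ψ (st g (genericPoint Y) c) = st f (genericPoint X) c := fun c => ψ.commutes c
  have hlt : ∀ z, z ∈ V → (V.valuation z < 1 ↔ ∀ a' : X.presheaf.stalk (ξ f),
      algebraMap _ X.functionField a' = ψ z → a' ∈ maximalIdeal (X.presheaf.stalk (ξ f))) := by
    intro z hz
    rw [valuation_lt_one_iff_forall V hz]
    constructor
    · intro h a' ha'
      by_contra hu
      obtain ⟨b', hb'⟩ := isUnit_iff_exists_inv.1 (not_not.1 fun h' => hu ((mem_maximalIdeal a').2 h'))
      refine h (ψ.symm (algebraMap _ X.functionField b')) ?_ (ψ.injective ?_)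
      · rw [hV, ψ.apply_symm_apply]; exact ⟨b', rfl⟩
      · rw [map_mul, ψ.apply_symm_apply, map_one, ← ha', ← map_mul, hb', map_one]
    · intro h w hw e
      obtain ⟨a', ha'⟩ := (hV z).1 hz
      obtain ⟨b', hb'⟩ := (hV w).1 hw
      refine (mem_maximalIdeal a').1 (h a' ha') (isUnit_iff_exists_inv.2 ⟨b', ?_⟩)
      apply algebraMap_injective_stalk (ξ f)
      rw [map_mul, ha', hb', ← map_mul, e, map_one, map_one]
  have hy : g (genericPoint Y) ⤳ sS R := by
    rw [map_genericPoint g]
    exact (PrimeSpectrum.le_iff_specializes _ _).1 bot_le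
  have hd : Proj16.Dominates g V hy := by
    have hmem : ∀ c, st g (genericPoint Y) c ∈ V := fun c => by
      rw [hV, hst]
      exact ⟨st f (ξ f) c, algebraMap_st f _ c⟩
    refine ⟨fun a => ?_, fun a ha => ?_⟩
    · obtain ⟨c, rfl⟩ := germ_sS_surjective a
      rw [toFunctionField_germ]
      exact hmem c
    · obtain ⟨c, rfl⟩ := germ_sS_surjective a
      rw [toFunctionField_germ, hlt _ (hmem c)]
      intro a' ha'
      have ha'' : a' = st f (ξ f) c := by
        apply algebraMap_injective_stalk (ξ f)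
        rw [ha', hst, algebraMap_st]
      have hc : c ∈ Ideal.span {π} := by
        rw [← hπ.maximalIdeal_eq]
        refine (mem_maximalIdeal c).2 fun hu => (mem_maximalIdeal _).1 ha ?_
        exact (hu.map _).map _
      obtain ⟨d, rfl⟩ := Ideal.mem_span_singleton'.1 hc
      rw [ha'', map_mul, maximalIdeal_ξ f hπ]
      exact Ideal.mul_mem_left _ _ (Ideal.mem_span_singleton_self _)
  obtain ⟨y, hy1, hy2⟩ := Proj16.hasCentres_of_universallyClosed g V (sS R) hy hd
  have hin : ∀ b ∈ loc y, ψ b ∈ loc (ξ f) := by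
    rintro _ ⟨a, rfl⟩
    exact (hV _).1 (hy1 a)
  by_cases hyξ : y = ξ g
  · exact Or.inl (hyξ ▸ hin)
  refine Or.inr ?_
  have hys : g y = sS R := by
    refine (eq_sS_or_sη (g y)).resolve_right fun h => ?_
    obtain ⟨b, hb⟩ := isUnit_iff_exists_inv.1 (isUnit_st_of_sη g h hπ.ne_zero)
    obtain ⟨b', hb'⟩ := (hV _).1 (hy1 b)
    refine not_isUnit_st_ξ f hπ (isUnit_iff_exists_inv.2 ⟨b', ?_⟩)
    apply algebraMap_injective_stalk (ξ f)
    rw [map_mul, hb', algebraMap_st, ← hst, ← algebraMap_st g y, ← map_mul, ← map_mul, hb, map_one,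
      map_one, map_one]
  have hyc := isClosed_of_ne_ξ g hYdim hys hyξ
  intro π hπ w hw
  have hres : ∀ b ∈ loc y, ∃ c : R, ∃ v ∈ loc (ξ f),
      ψ b = algebraMap R X.functionField c + algebraMap R X.functionField π * v := by
    intro b hb
    obtain ⟨a', ha'⟩ := hin b hb
    obtain ⟨a, rfl⟩ := hb
    obtain ⟨p, hpm, hp⟩ := exists_monic_mem g hYdim hyc hys a
    have hp' : p.eval₂ (st f (ξ f)) a' ∈ maximalIdeal (X.presheaf.stalk (ξ f)) := by
      refine (hlt _ (hy1 _)).1 (hy2 _ hp) _ ?_
      rw [Polynomial.hom_eval₂, Polynomial.hom_eval₂, ha']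
      refine Eq.trans ?_ (Polynomial.hom_eval₂ p _ (ψ : Y.functionField →+* X.functionField) _).symm
      refine Polynomial.eval₂_congr (RingHom.ext fun c => ?_) rfl rfl
      exact (algebraMap_st f _ c).trans ((hst c).symm.trans (congrArg ψ (algebraMap_st g y c)).symm)
    obtain ⟨c, hc⟩ := exists_const_mod_ξ f hXdim a' p hpm hp'
    rw [maximalIdeal_ξ f hπ, Ideal.mem_span_singleton] at hc
    obtain ⟨v, hv⟩ := hc
    refine ⟨c, _, ⟨v, rfl⟩, ?_⟩
    have h := congrArg (algebraMap (X.presheaf.stalk (ξ f)) X.functionField) hv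
    rw [map_sub, map_mul, ha', algebraMap_st, algebraMap_st] at h
    exact sub_eq_iff_eq_add'.1 h
  obtain ⟨u, hu, hwu⟩ := exists_smul_of_residue ψ.toAlgHom π hin hres (hw y)
  refine ⟨u, isForm_of_regular f hXdim u (fun x hx => ?_) hu, hwu⟩
  obtain ⟨y', -, hy'⟩ := hψ x hx
  obtain ⟨b, hb⟩ := isUnit_iff_exists_inv'.1 (isUnit_st_of_sη f hx hπ.ne_zero)
  have h := smul_mem_regS R (fun a ha c hc => mul_mem_imSet _ a ha c hc) ⟨b, rfl⟩
    (dmap_mem ψ.toAlgHom hy' (hw y'))
  rw [hwu, smul_smul] at h
  have hone : algebraMap (X.presheaf.stalk x) X.functionField b * algebraMap R X.functionField π = 1 := by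
    show _ * st f (genericPoint X) π = 1
    rw [← algebraMap_st f x, ← map_mul, hb, map_one]
  rwa [hone, one_smul] at h

/-- The isomorphism respects the generic points of the closed fibres. -/
theorem centre (ψ : FIso f g) (hψ : GenericReg ψ) (hψ' : GenericReg (f := g) (g := f) (letI := ffR f; letI := ffR g; ψ.symm)) (n : ℕ) (hn : 1 ≤ n)
    (hgen : Curv2.genus ((Spec (CommRingCat.of R)).residueField (sη R)) (g.fiber (sη R)) = n) :
    letI := ffR f; letI := ffR g
    ∀ b ∈ loc (ξ g), ψ b ∈ loc (ξ f) := by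
  letI := ffR f
  letI := ffR g
  obtain ⟨π, hπ⟩ := IsDiscreteValuationRing.exists_irreducible R
  rcases centre_step hXdim hYdim ψ hψ with h | h
  · exact h
  rcases centre_step hYdim hXdim ψ.symm hψ' with h' | h'
  · intro b hb
    haveI := isDVR_ξ f
    rcases (valξ f).mem_or_inv_mem (ψ b) with hz | hz
    · exact hz
    by_contra hbn
    obtain ⟨z, hz⟩ := hz
    have hzn : ¬ IsUnit z := fun hu => by
      obtain ⟨z', hz'⟩ := isUnit_iff_exists_inv.1 hu
      refine hbn ⟨z', ?_⟩
      have e := congrArg (algebraMap (X.presheaf.stalk (ξ f)) X.functionField) hz'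
      rw [map_mul, hz, map_one] at e
      have h0 : ψ b ≠ 0 := fun h0 => by rw [h0, inv_zero, zero_mul] at e; exact zero_ne_one e
      exact (inv_mul_eq_one₀ h0).1 e |>.symm
    have hzπ : z ∈ Ideal.span {st f (ξ f) π} := maximalIdeal_ξ f hπ ▸ (mem_maximalIdeal z).2 hzn
    obtain ⟨c, rfl⟩ := Ideal.mem_span_singleton'.1 hzπ
    obtain ⟨c', hc'⟩ := h' _ ⟨c, rfl⟩
    obtain ⟨b', rfl⟩ := hb
    refine not_isUnit_st_ξ g hπ (isUnit_iff_exists_inv.2 ⟨c' * b', ?_⟩)
    apply algebraMap_injective_stalk (ξ g)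
    apply ψ.injective
    have h0 : ψ (algebraMap _ Y.functionField b') ≠ 0 := fun h0 =>
      hbn (by rw [h0]; exact ⟨0, map_zero _⟩)
    rw [map_mul, algebraMap_st] at hz
    rw [map_mul, map_mul, map_mul, map_mul, hc', ψ.apply_symm_apply, algebraMap_st,
      show ψ (st g (genericPoint Y) π) = st f (genericPoint X) π from ψ.commutes π, map_one, map_one,
      ← mul_assoc, mul_comm (st f (genericPoint X) π), hz, inv_mul_cancel₀ h0]
  exfalso
  obtain ⟨w₀, hw₀, hform⟩ := exists_isForm g hYdim n hn hgen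
  refine hw₀ ?_
  letI := stR g (ξ g)
  haveI : IsScalarTower R (Y.presheaf.stalk (ξ g)) Y.functionField :=
    IsScalarTower.of_algebraMap_eq fun c => (algebraMap_st g (ξ g) c).symm
  haveI := isDVR_ξ g
  haveI := (stalk_kaehler g (ξ g)).1
  have key : ∀ (m : ℕ) (w : Ω[Y.functionField⁄R]), IsForm g w →
      ∃ u : Ω[Y.functionField⁄R], IsForm g u ∧ w = algebraMap R Y.functionField (π ^ m) • u := by
    intro m
    induction m with
    | zero => exact fun w hw => ⟨w, hw, by rw [pow_zero, map_one, one_smul]⟩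
    | succ m ih =>
      intro w hw
      obtain ⟨w', hw', e'⟩ := h π hπ w hw
      obtain ⟨w'', hw'', e''⟩ := h' π hπ w' hw'
      have e : w = algebraMap R Y.functionField (π * π) • w'' := by
        rw [← dmap_symm ψ w, e', dmap_smul, e'', map_mul, mul_smul]
        exact congrArg (· • algebraMap R Y.functionField π • w'') (ψ.symm.commutes π)
      obtain ⟨u, hu, eu⟩ := ih w'' hw''
      refine ⟨algebraMap R Y.functionField π • u, fun y => ?_, ?_⟩
      · exact smul_mem_regS R (fun a ha c hc => mul_mem_imSet _ a ha c hc)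
          ⟨st g y π, algebraMap_st g y π⟩ (hu y)
      · rw [e, eu, smul_smul, smul_smul, ← map_mul, ← map_mul]
        congr 2
        ring
  refine eq_zero_of_forall_pow R (Y.presheaf.stalk (ξ g)) (not_isUnit_st_ξ g hπ) w₀ fun m => ?_
  obtain ⟨u, hu, e⟩ := key m w₀ hform
  exact ⟨u, hu (ξ g), by rw [e, ← map_pow, algebraMap_st]; rfl⟩

end Groth.Agent.CurveExt
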