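import Groth.Agent.CurveExt.Alg
import Groth.Agent.CurveFF.Omega
import Groth.Agent.CurveBC.Main
import Groth.Agent.SepPt.Scheme

/-!
A nonzero regular differential of a curve of positive genus over any field.
-/

noncomputable section

set_option autoImplicit false
set_option linter.style.haveILetI false
set_option linter.unusedSectionVars false
set_option backward.isDefEq.respectTransparency false
set_option backward.isDefEq.respectTransparency.types false

universe u

open CategoryTheory CategoryTheory.Limits AlgebraicGeometry TopologicalSpace Opposite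
open Groth.Agent.Synt29.OmegaStalk (St gm stalkD)

namespace Groth.Agent.CurveExt

attribute [local instance] CurveFF.ffAlg

variable (k : Type u) [Field k] (X : Scheme.{u}) [X.Over (Spec (CommRingCat.of k))] [IsIntegral X]
  [IsProper (X ↘ Spec (CommRingCat.of k))] [Smooth (X ↘ Spec (CommRingCat.of k))]

local notation "Ω₀" => Omega.sheaf (X ↘ Spec (CommRingCat.of k))
local notation "dΩ" => OmegaSh.dOmega (X ↘ Spec (CommRingCat.of k))
local notation "η" => genericPoint X

theorem stalkD_const (z : X) (c : k) : (stalkD dΩ z).d (Curv2.stalkMap k X z c) = 0 := by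
  obtain ⟨a, ha⟩ := CurveFF.exists_preimage_const k X z c
  rw [← ha]
  exact (stalkD dΩ z).d_map a

theorem span_stalkD (z : X) :
    Submodule.span (X.presheaf.stalk z) (Set.range fun a => (stalkD dΩ z).d a) = ⊤ := by
  rw [eq_top_iff]
  rintro m -
  haveI := Synt29.OmegaStalk.isIso_toStalk (OmegaUniv.isUniversal_dOmega (X ↘ Spec (CommRingCat.of k))) z
  obtain ⟨w, rfl⟩ := (ConcreteCategory.bijective_of_isIso (Synt29.OmegaStalk.toStalk dΩ z)).2 m
  letI := ((X ↘ Spec (CommRingCat.of k)).stalkMap z).hom.toAlgebra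
  have hw : w ∈ Submodule.span (X.presheaf.stalk z)
      (Set.range (KaehlerDifferential.D ((Spec (CommRingCat.of k)).presheaf.stalk ((X ↘ Spec (CommRingCat.of k)) z))
        (X.presheaf.stalk z))) := by
    rw [KaehlerDifferential.span_range_derivation]; trivial
  induction hw using Submodule.span_induction with
  | mem y hy =>
    obtain ⟨b, rfl⟩ := hy
    exact Submodule.subset_span ⟨b, (Synt29.OmegaStalk.toStalk_d dΩ z b).symm⟩
  | zero => rw [map_zero]; exact zero_mem _
  | add a b _ _ ha hb => rw [map_add]; exact add_mem ha hb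
  | smul r a _ ha => rw [map_smul]; exact Submodule.smul_mem _ r ha

/-- The generic stalk of the differentials inside the differentials of the function field. -/
theorem exists_toKaehler :
    ∃ Ψ : St Ω₀ η →ₗ[X.functionField] Ω[X.functionField⁄k],
      Function.Injective Ψ ∧
      ∀ a : X.functionField, Ψ ((stalkD dΩ η).d a) = KaehlerDifferential.D k X.functionField a := by
  let N : ModuleCat.{u} (X.presheaf.stalk η) := ModuleCat.of X.functionField (Ω[X.functionField⁄k])
  let δ : N.Derivation ((X ↘ Spec (CommRingCat.of k)).stalkMap η) :=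
    ModuleCat.Derivation.mk (fun b => KaehlerDifferential.D k X.functionField b)
      (fun a b => map_add _ a b) (fun a b => Derivation.leibniz _ a b) (fun a => by
        obtain ⟨c, hc⟩ := CurveFF.exists_const k X η a
        rw [hc]
        exact Derivation.map_algebraMap _ c)
  obtain ⟨φ, hφ⟩ := Synt29.OmegaStalk.exists_stalk_desc
    (OmegaUniv.isUniversal_dOmega (X ↘ Spec (CommRingCat.of k))) η δ
  letI : Module k (St Ω₀ η) := Module.compHom _ (Curv2.stalkMap k X η)
  haveI : IsScalarTower k X.functionField (St Ω₀ η) :=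
    ⟨fun c r m => mul_smul (Curv2.stalkMap k X η c) r m⟩
  let E : Derivation k X.functionField (St Ω₀ η) :=
    { toFun := fun a => (stalkD dΩ η).d a
      map_add' := fun a b => (stalkD dΩ η).d_add a b
      map_smul' := fun c a => by
        show (stalkD dΩ η).d (Curv2.stalkMap k X η c * a) = Curv2.stalkMap k X η c • (stalkD dΩ η).d a
        refine ((stalkD dΩ η).d_mul _ _).trans ?_
        show _ + (a : X.presheaf.stalk η) • (stalkD dΩ η).d (Curv2.stalkMap k X η c) = _
        rw [stalkD_const, smul_zero, add_zero]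
      map_one_eq_zero' := by
        show (stalkD dΩ η).d 1 = 0
        rw [← map_one (Curv2.stalkMap k X η), stalkD_const]
      leibniz' := fun a b => (stalkD dΩ η).d_mul a b }
  refine ⟨φ.hom, fun m m' h => ?_, hφ⟩
  have key : ∀ m, E.liftKaehlerDifferential (φ.hom m) = m := fun m => by
    have hm := span_stalkD k X η ▸ (Submodule.mem_top : m ∈ ⊤)
    induction hm using Submodule.span_induction with
    | mem y hy =>
      obtain ⟨b, rfl⟩ := hy
      exact (congrArg _ (hφ b)).trans (E.liftKaehlerDifferential_comp_D b)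
    | zero => simp
    | add a b _ _ ha hb => rw [map_add, map_add, ha, hb]
    | smul r a _ ha =>
      exact ((congrArg _ (map_smul φ.hom r a)).trans (E.liftKaehlerDifferential.map_smul r _)).trans
        (congrArg (r • ·) ha)
  rw [← key m, ← key m']
  exact congrArg _ h

/-- Germs at a point give differentials regular at that point. -/
theorem mem_regS_germ (Ψ : St Ω₀ η →ₗ[X.functionField] Ω[X.functionField⁄k])
    (hΨ : ∀ a : X.functionField, Ψ ((stalkD dΩ η).d a) = KaehlerDifferential.D k X.functionField a)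
    (u : X) (m : St Ω₀ u) :
    Ψ (Scheme.Modules.presheaf Ω₀ |>.stalkSpecializes ((genericPoint_spec X).specializes (Set.mem_univ u)) m) ∈
      RegS k (imSet (F := X.functionField) (X.presheaf.stalk u)) := by
  let h := (genericPoint_spec X).specializes (Set.mem_univ u)
  let G := (Scheme.Modules.presheaf Ω₀).stalkSpecializes h
  have hG : ∀ {W : X.Opens} (hW : u ∈ W) (s : Γ(Ω₀, W)),
      G (gm Ω₀ hW s) = gm Ω₀ (h.mem_open W.2 hW) s := fun hW s =>
    TopCat.Presheaf.germ_stalkSpecializes_apply (F := Scheme.Modules.presheaf Ω₀) (hy := hW) h s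
  have hO : ∀ {W : X.Opens} (hW : u ∈ W) (a : Γ(X, W)),
      algebraMap (X.presheaf.stalk u) X.functionField (X.presheaf.germ W u hW a) =
        X.presheaf.germ W η (h.mem_open W.2 hW) a := fun hW a =>
    TopCat.Presheaf.germ_stalkSpecializes_apply (F := X.presheaf) (hy := hW) h a
  have hm := span_stalkD k X u ▸ (Submodule.mem_top : m ∈ ⊤)
  induction hm using Submodule.span_induction with
  | mem y hy =>
    obtain ⟨b, rfl⟩ := hy
    obtain ⟨W, hW, s, rfl⟩ := X.presheaf.exists_germ_eq (x := u) b
    have h1 : G ((stalkD dΩ u).d (X.presheaf.germ W u hW s)) =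
        (stalkD dΩ η).d (X.presheaf.germ W η (h.mem_open W.2 hW) s) := by
      rw [Synt29.OmegaStalk.stalkD_germ dΩ W hW s, Synt29.OmegaStalk.stalkD_germ dΩ W _ s]
      exact hG hW _
    refine Set.mem_of_eq_of_mem ((congrArg Ψ h1).trans (hΨ _)) ?_
    exact AddSubgroup.subset_closure ⟨1, ⟨1, map_one _⟩, _, ⟨_, hO hW s⟩, (one_smul _ _).symm⟩
  | zero => rw [map_zero, map_zero]; exact zero_mem _
  | add a b _ _ ha hb => rw [map_add, map_add]; exact add_mem ha hb
  | smul r a _ ha =>
    obtain ⟨V, hV, r', rfl⟩ := X.presheaf.exists_germ_eq (x := u) r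
    obtain ⟨W, hW, s, rfl⟩ := Synt29.OmegaStalk.gm_surjective Ω₀ a
    have hVW : u ∈ V ⊓ W := ⟨hV, hW⟩
    have e : G (X.presheaf.germ V u hV r' • gm Ω₀ hW s) =
        X.presheaf.germ V η (h.mem_open V.2 hV) r' • G (gm Ω₀ hW s) := by
      rw [← X.presheaf.germ_res_apply (homOfLE (inf_le_left : V ⊓ W ≤ V)) u hVW r',
        ← Synt29.OmegaStalk.gm_res Ω₀ (homOfLE (inf_le_right : V ⊓ W ≤ W)) hVW s,
        ← Synt29.OmegaStalk.gm_smul, hG hVW, hG hVW, Synt29.OmegaStalk.gm_smul,
        X.presheaf.germ_res_apply]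
    refine Set.mem_of_eq_of_mem ((congrArg Ψ e).trans (map_smul Ψ _ _)) ?_
    exact smul_mem_regS k (mul_mem_imSet _) ⟨_, hO hV r'⟩ ha



/-- A curve of positive genus has a nonzero differential regular everywhere. -/
theorem exists_form (hdim : topologicalKrullDim X = 1)
    (h0 : Module.finrank k (Coh.HH X (Coh.structureModule X) 0) = 1) (hg : 1 ≤ Curv2.genus k X) :
    ∃ w : Ω[X.functionField⁄k], w ≠ 0 ∧
      ∀ u : X, w ∈ RegS k (imSet (F := X.functionField) (X.presheaf.stalk u)) := by
  obtain ⟨hh, -⟩ := CurveBC.canonical_invariants k X hdim h0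
  have hΩ := CurveBC.isInvertible_omega k X hdim h0
  haveI : Nontrivial (Coh.HH X Ω₀ 0) := Module.nontrivial_of_finrank_pos (R := k) (by omega)
  obtain ⟨t, ht⟩ := exists_ne (0 : Coh.HH X Ω₀ 0)
  let σ : Γ(Ω₀, ⊤) := Sheaf.H.equiv₀ (Coh.toAb Ω₀) isTerminalTop t
  obtain ⟨Ψ, hinj, hΨ⟩ := exists_toKaehler k X
  refine ⟨Ψ (gm Ω₀ (U := ⊤) trivial σ), fun h => ht ?_, fun u => ?_⟩
  · refine (Sheaf.H.equiv₀ (Coh.toAb Ω₀) isTerminalTop).injective ?_
    rw [map_zero]
    exact CurveCohLib.Hopf.eq_zero_of_germ_eq_zero hΩ _ (x := η) (hinj (h.trans (map_zero Ψ).symm))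
  · have h1 := mem_regS_germ k X Ψ hΨ u (gm Ω₀ (U := ⊤) (x := u) trivial σ)
    refine Set.mem_of_eq_of_mem ?_ h1
    exact congrArg Ψ (TopCat.Presheaf.germ_stalkSpecializes_apply (F := Scheme.Modules.presheaf Ω₀) (U := ⊤)
      (hy := trivial) ((genericPoint_spec X).specializes (Set.mem_univ u)) σ).symm

end Groth.Agent.CurveExt
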