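import Groth.Agent.CurveExt.Centre
import Groth.Agent.Rat20Lib.Graph

/-!
An isomorphism of the generic fibres of smooth curves of positive genus over a discrete valuation
ring extends.
-/

noncomputable section

set_option autoImplicit false
set_option linter.style.haveILetI false
set_option linter.unusedSectionVars false
set_option backward.isDefEq.respectTransparency false
set_option backward.isDefEq.respectTransparency.types false

universe u

open CategoryTheory CategoryTheory.Limits AlgebraicGeometry TopologicalSpace IsLocalRing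

namespace Groth.Agent.CurveExt

theorem toFF_eq {A B : Scheme.{u}} [IsIntegral A] [IsIntegral B] (p : A ⟶ B)
    (e : p (genericPoint A) = genericPoint B) {y : B} (hy : p (genericPoint A) ⤳ y)
    (a : B.presheaf.stalk y) :
    (Proj16.toFunctionField p hy).hom a = ffPull p e (algebraMap (B.presheaf.stalk y) B.functionField a) := by
  show p.stalkMap (genericPoint A) (B.presheaf.stalkSpecializes hy a) =
    p.stalkMap (genericPoint A) (B.presheaf.stalkSpecializes _ (B.presheaf.stalkSpecializes _ a))
  refine congrArg _ ?_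
  rw [← CommRingCat.comp_apply, TopCat.Presheaf.stalkSpecializes_comp]

theorem toFF_congr {A B : Scheme.{u}} [IsIntegral A] {p p' : A ⟶ B} (h : p = p') {y : B}
    (hy : p (genericPoint A) ⤳ y) (a : B.presheaf.stalk y) :
    (Proj16.toFunctionField p hy).hom a =
      (Proj16.toFunctionField p' (h ▸ hy : p' (genericPoint A) ⤳ y)).hom a := by
  subst h
  rfl

theorem toFF_comp {A B C : Scheme.{u}} [IsIntegral A] (q : A ⟶ B) (p : B ⟶ C) {z : B}
    (hz : q (genericPoint A) ⤳ z) (a : C.presheaf.stalk (p z)) :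
    (Proj16.toFunctionField q hz).hom (p.stalkMap z a) =
      (Proj16.toFunctionField (q ≫ p) (hz.map p.continuous)).hom a := by
  have h1 := (p.stalkSpecializes_stalkMap_apply (q (genericPoint A)) z hz a).symm
  show q.stalkMap (genericPoint A) (B.presheaf.stalkSpecializes hz (p.stalkMap z a)) = _
  rw [h1]
  show _ = (q ≫ p).stalkMap (genericPoint A) (C.presheaf.stalkSpecializes _ a)
  rw [Scheme.Hom.stalkMap_comp]
  rfl

/-- A closed set of closed points of a Noetherian scheme is finite. -/
theorem finite_of_forall_isClosed {P : Scheme.{u}} [NoetherianSpace P] {Z : Set P} (hZ : IsClosed Z)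
    (h : ∀ z ∈ Z, IsClosed ({z} : Set P)) : Z.Finite := by
  obtain ⟨S, hSf, hSc, hSi, rfl⟩ := NoetherianSpace.exists_finite_set_isClosed_irreducible hZ
  refine hSf.sUnion fun t ht => ?_
  have e := (hSi t ht).closure_genericPoint (hSc t ht)
  have hm : (hSi t ht).genericPoint ∈ t := e.le (subset_closure (Set.mem_singleton _))
  rw [(h _ (Set.mem_sUnion.2 ⟨t, ht, hm⟩)).closure_eq] at e
  exact e ▸ Set.finite_singleton _

variable {R : Type u} [CommRing R] [IsDomain R] [IsDiscreteValuationRing R] {X Y : Scheme.{u}}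
  (f : X ⟶ Spec (CommRingCat.of R)) (g : Y ⟶ Spec (CommRingCat.of R))
  [IsIntegral X] [IsIntegral Y] [IsProper f] [Smooth f] [GeometricallyConnected f]
  [IsProper g] [Smooth g] [GeometricallyConnected g]

theorem ffPull_st {A B : Scheme.{u}} [IsIntegral A] [IsIntegral B] (p : A ⟶ B)
    (g : B ⟶ Spec (CommRingCat.of R)) (e : p (genericPoint A) = genericPoint B) (c : R) :
    ffPull p e (st g (genericPoint B) c) = st (p ≫ g) (genericPoint A) c := by
  refine Eq.trans (congrArg (p.stalkMap (genericPoint A)).hom (st_specializes g _ c)) ?_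
  exact Scheme.Hom.germ_stalkMap_apply p ⊤ (genericPoint A) trivial _

/-- A point of the fibre product over closed points of the factors is closed. -/
theorem isClosed_of_fst_snd {x : X} {y : Y} (hx : IsClosed ({x} : Set X)) (hy : IsClosed ({y} : Set Y))
    (z : ↥(pullback f g)) (hzx : pullback.fst f g z = x) (hzy : pullback.snd f g z = y) :
    IsClosed ({z} : Set ↥(pullback f g)) := by
  let iy := Y.fromSpecResidueField y
  haveI : IsClosedImmersion iy := IsClosedImmersion.of_isPreimmersion iy
    (by rw [Scheme.range_fromSpecResidueField]; exact hy)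
  haveI : LocallyQuasiFinite (iy ≫ g) := by
    haveI : Subsingleton ↥(Spec (Y.residueField y)) :=
      inferInstanceAs (Subsingleton (PrimeSpectrum (Y.residueField y)))
    exact LocallyQuasiFinite.of_injective (f := iy ≫ g) fun a b _ => Subsingleton.elim a b
  let j := pullback.fst (pullback.snd f g) iy
  haveI : LocallyQuasiFinite (j ≫ pullback.fst f g) :=
    MorphismProperty.of_isPullback (P := @LocallyQuasiFinite)
      ((IsPullback.of_hasPullback (pullback.snd f g) iy).paste_horiz
        (IsPullback.of_hasPullback f g)).flip (inferInstance : LocallyQuasiFinite (iy ≫ g))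
  refine isClosed_of_closure_subset fun w hw => ?_
  have hzw : z ⤳ w := specializes_iff_mem_closure.2 hw
  have hwx : pullback.fst f g w = x :=
    (show x ⤳ pullback.fst f g w from hzx ▸ hzw.map (pullback.fst f g).continuous).mem_closed hx rfl
  have hwy : pullback.snd f g w = y :=
    (show y ⤳ pullback.snd f g w from hzy ▸ hzw.map (pullback.snd f g).continuous).mem_closed hy rfl
  have hr : ∀ v, pullback.snd f g v = y → v ∈ Set.range j := fun v hv => by
    rw [Scheme.Pullback.range_fst, Scheme.range_fromSpecResidueField]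
    exact hv
  obtain ⟨q, rfl⟩ := hr z hzy
  obtain ⟨q', rfl⟩ := hr w hwy
  have hqq : q ⤳ q' := j.isEmbedding.isInducing.specializes_iff.1 hzw
  have hd : _root_.IsDiscrete ((j ≫ pullback.fst f g) ⁻¹' {x}) :=
    (j ≫ pullback.fst f g).isDiscrete_preimage_singleton x
  haveI := hd.to_subtype
  have : (⟨q, hzx⟩ : ↥((j ≫ pullback.fst f g) ⁻¹' {x})) ⤳ ⟨q', hwx⟩ :=
    (subtype_specializes_iff _ _).2 hqq
  exact congrArg j (congrArg Subtype.val this.eq).symm

variable (U : X.Opens) (h : (U : Scheme.{u}) ⟶ Y) [IsOpenImmersion h]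
  [IsIntegral (U : Scheme.{u})]

theorem ι_genericPoint : U.ι (genericPoint U) = genericPoint X :=
  genericPoint_eq_of_isOpenImmersion U.ι

theorem h_genericPoint : h (genericPoint U) = genericPoint Y :=
  genericPoint_eq_of_isOpenImmersion h

/-- Restriction of functions to an open. -/
def eU : X.functionField ≃+* (U : Scheme.{u}).functionField :=
  RingEquiv.ofBijective (ffPull U.ι (ι_genericPoint U))
    (ffPull_bijective _ _ (U.ι.stalkMap_surjective _))

/-- Restriction of functions along an open immersion. -/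
def eh : Y.functionField ≃+* (U : Scheme.{u}).functionField :=
  RingEquiv.ofBijective (ffPull h (h_genericPoint U h))
    (ffPull_bijective _ _ (h.stalkMap_surjective _))

variable (hh : U.ι ≫ f = h ≫ g)

include hh in
theorem fun_commutes (c : R) :
    ((eh U h).trans (eU U).symm) (st g (genericPoint Y) c) = st f (genericPoint X) c := by
  rw [RingEquiv.trans_apply, RingEquiv.symm_apply_eq]
  refine (ffPull_st h g (h_genericPoint U h) c).trans ?_
  rw [← hh]
  exact (ffPull_st U.ι f (ι_genericPoint U) c).symm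

/-- The isomorphism of function fields. -/
def isoFF : FIso f g :=
  letI := ffR f; letI := ffR g
  AlgEquiv.ofRingEquiv (f := (eh U h).trans (eU U).symm) (fun_commutes f g U h hh)

theorem eU_isoFF (b : Y.functionField) :
    eU U (isoFF f g U h hh b) = eh U h b := (eU U).apply_symm_apply _

variable (hU : (U : Set X) = f ⁻¹' {sη R}) (hrange : Set.range h = g ⁻¹' {sη R})

include hU hrange in
theorem genericReg_isoFF : GenericReg (isoFF f g U h hh) := by
  intro x hx
  obtain ⟨u, rfl⟩ : x ∈ Set.range U.ι := by rw [Scheme.Opens.range_ι, hU]; exact hx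
  refine ⟨h u, (hrange.le ⟨u, rfl⟩ : h u ∈ g ⁻¹' {sη R}), ?_⟩
  rintro _ ⟨a, rfl⟩
  obtain ⟨a', ha'⟩ := U.ι.stalkMap_surjective u (h.stalkMap u a)
  refine ⟨a', (eU U).injective ?_⟩
  rw [eU_isoFF]
  refine (ffPull_algebraMap U.ι (ι_genericPoint U) u a').trans ?_
  exact (congrArg _ ha').trans (ffPull_algebraMap h (h_genericPoint U h) u a).symm

include hU hrange in
theorem genericReg_isoFF_symm : GenericReg (f := g) (g := f)
    (letI := ffR f; letI := ffR g; (isoFF f g U h hh).symm) := by
  letI := ffR f; letI := ffR g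
  intro y hy
  obtain ⟨u, rfl⟩ : y ∈ Set.range h := hrange.ge hy
  refine ⟨U.ι u, (hU.le (by rw [← Scheme.Opens.range_ι U]; exact ⟨u, rfl⟩) : U.ι u ∈ f ⁻¹' {sη R}), ?_⟩
  rintro _ ⟨a, rfl⟩
  obtain ⟨a', ha'⟩ := h.stalkMap_surjective u (U.ι.stalkMap u a)
  refine ⟨a', ?_⟩
  rw [eq_comm, AlgEquiv.symm_apply_eq]
  refine (eU U).injective ?_
  rw [eU_isoFF]
  refine (ffPull_algebraMap U.ι (ι_genericPoint U) u a).trans ?_
  exact (congrArg _ ha').symm.trans (ffPull_algebraMap h (h_genericPoint U h) u a').symm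

/-- The map to the graph. -/
def γ : (U : Scheme.{u}) ⟶ pullback f g := pullback.lift U.ι h hh

/-- The valuation ring of the closed fibre on the open. -/
def valU : ValuationSubring (U : Scheme.{u}).functionField :=
  (valξ f).comap ((eU U).symm : (U : Scheme.{u}).functionField →+* X.functionField)

theorem mem_valU {w : (U : Scheme.{u}).functionField} : w ∈ valU f U ↔ (eU U).symm w ∈ loc (ξ f) :=
  Iff.rfl

/-- A point of the graph whose local ring fills the valuation ring is dominated by it. -/
theorem dominated {P C : Scheme.{u}} (q : (U : Scheme.{u}) ⟶ P) (p : P ⟶ C) {z : P}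
    (hz : q (genericPoint U) ⤳ z)
    (hin : ∀ a : C.presheaf.stalk (p z),
      (Proj16.toFunctionField q hz).hom (p.stalkMap z a) ∈ valU f U)
    (hsur : ∀ w ∈ valU f U, ∃ a : C.presheaf.stalk (p z),
      (Proj16.toFunctionField q hz).hom (p.stalkMap z a) = w) :
    (∀ a, (Proj16.toFunctionField q hz).hom a ∈ valU f U) ∧
      ∀ a ∈ maximalIdeal (P.presheaf.stalk z),
        (Proj16.toFunctionField q hz).hom a ∈ (valU f U).nonunits := by
  let φ := (Proj16.toFunctionField q hz).hom
  have hone : ∀ a b, a ∈ maximalIdeal (P.presheaf.stalk z) → φ a * φ b ≠ 1 := fun a b ha e => by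
    have h0 : IsUnit (φ (1 - a * b)) :=
      (IsLocalRing.isUnit_one_sub_self_of_mem_nonunits _ (Ideal.mul_mem_right b _ ha)).map φ
    rw [map_sub, map_mul, e, map_one, sub_self] at h0
    exact not_isUnit_zero h0
  have hmem : ∀ a, φ a ∈ valU f U := fun a => by
    by_contra hna
    have h0 : φ a ≠ 0 := fun h0 => hna (by rw [h0]; exact zero_mem _)
    have hinv : (φ a)⁻¹ ∈ valU f U := ((valU f U).mem_or_inv_mem _).resolve_left hna
    obtain ⟨c, hc⟩ := hsur _ hinv
    refine hone (p.stalkMap z c) a ((mem_maximalIdeal _).2 fun hu => ?_)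
      (show φ _ * φ a = 1 by rw [show φ (p.stalkMap z c) = _ from hc, inv_mul_cancel₀ h0])
    obtain ⟨d, hd⟩ := isUnit_iff_exists_inv.1 ((isUnit_map_iff (p.stalkMap z).hom c).1 hu)
    refine hna ?_
    have e := congrArg (fun v => φ (p.stalkMap z v)) hd
    simp only [map_mul, map_one] at e
    rw [show φ (p.stalkMap z c) = _ from hc, inv_mul_eq_one₀ h0] at e
    exact e ▸ hin d
  refine ⟨hmem, fun a ha => ?_⟩
  rw [ValuationSubring.mem_nonunits_iff, valuation_lt_one_iff_forall _ (hmem a)]
  intro w hw e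
  obtain ⟨c, hc⟩ := hsur w hw
  exact hone a _ ha (by rw [show φ (p.stalkMap z c) = w from hc]; exact e)

variable (hXdim : ∀ s : ↥(Spec (CommRingCat.of R)), topologicalKrullDim ↥(f.fiber s) = 1)
  (hYdim : ∀ s : ↥(Spec (CommRingCat.of R)), topologicalKrullDim ↥(g.fiber s) = 1)

attribute [local instance] fibOver

include hXdim hYdim hU hrange hh in
/-- The map extends over the closed fibre. -/
theorem exists_extends (n : ℕ) (hn : 1 ≤ n)
    (hXgen : Curv2.genus ((Spec (CommRingCat.of R)).residueField (sη R)) (f.fiber (sη R)) = n)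
    (hYgen : Curv2.genus ((Spec (CommRingCat.of R)).residueField (sη R)) (g.fiber (sη R)) = n) (x : X) :
    ∃ (V : X.Opens) (v : (V : Scheme.{u}) ⟶ Y), x ∈ V ∧ v ≫ g = V.ι ≫ f ∧
      X.homOfLE (inf_le_right : U ⊓ V ≤ V) ≫ v = X.homOfLE (inf_le_left : U ⊓ V ≤ U) ≫ h := by
  letI := ffR f
  letI := ffR g
  by_cases hxU : x ∈ U
  · exact ⟨U, h, hxU, hh.symm, rfl⟩
  have hxs : f x = sS R := (eq_sS_or_sη (f x)).resolve_right fun h' => hxU (hU.ge h')
  let ψ := isoFF f g U h hh
  have hc : ∀ b ∈ loc (ξ g), ψ b ∈ loc (ξ f) :=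
    centre hXdim hYdim ψ (genericReg_isoFF f g U h hh hU hrange)
      (genericReg_isoFF_symm f g U h hh hU hrange) n hn hYgen
  have hc' : ∀ b ∈ loc (ξ f), ψ.symm b ∈ loc (ξ g) :=
    centre hYdim hXdim ψ.symm (genericReg_isoFF_symm f g U h hh hU hrange)
      (genericReg_isoFF f g U h hh hU hrange) n hn hXgen
  have hdense : Dense (U : Set X) := fun w => by
    have hη : genericPoint X ∈ U := by
      rw [← ι_genericPoint U, ← SetLike.mem_coe, ← Scheme.Opens.range_ι U]; exact ⟨_, rfl⟩
    exact closure_mono (Set.singleton_subset_iff.2 hη)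
      (specializes_iff_mem_closure.1 ((genericPoint_spec X).specializes trivial))
  let Γ := closure (Set.range (γ f g U h hh))
  have hΓ : ∀ z ∈ Γ, γ f g U h hh (genericPoint U) ⤳ z := fun z hz => by
    rw [specializes_iff_mem_closure]
    refine closure_minimal ?_ isClosed_closure hz
    rintro _ ⟨u, rfl⟩
    exact specializes_iff_mem_closure.1
      (((genericPoint_spec U).specializes trivial).map (γ f g U h hh).continuous)
  have hfst : γ f g U h hh ≫ pullback.fst f g = U.ι := pullback.lift_fst _ _ _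
  have hsnd : γ f g U h hh ≫ pullback.snd f g = h := pullback.lift_snd _ _ _
  have hsur : ∀ y : X, ∃ z ∈ Γ, pullback.fst f g z = y := fun y => by
    have hc := (pullback.fst f g).isClosedMap _ (isClosed_closure (s := Set.range (γ f g U h hh)))
    have hsub : (U : Set X) ⊆ pullback.fst f g '' Γ := fun w hw => by
      refine ⟨γ f g U h hh ⟨w, hw⟩, subset_closure ⟨_, rfl⟩, ?_⟩
      rw [← Scheme.Hom.comp_apply, hfst]
      rfl
    obtain ⟨z, hz, e⟩ := closure_minimal hsub hc (hdense y)
    exact ⟨z, hz, e⟩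
  have hA : ∀ {z} (hz : γ f g U h hh (genericPoint U) ⤳ z) (a : X.presheaf.stalk (pullback.fst f g z)),
      (eU U).symm ((Proj16.toFunctionField (γ f g U h hh) hz).hom ((pullback.fst f g).stalkMap z a)) =
        algebraMap _ X.functionField a := fun {z} hz a => by
    rw [RingEquiv.symm_apply_eq, toFF_comp, toFF_congr hfst, toFF_eq U.ι (ι_genericPoint U)]
    rfl
  have hB : ∀ {z} (hz : γ f g U h hh (genericPoint U) ⤳ z) (a : Y.presheaf.stalk (pullback.snd f g z)),
      (eU U).symm ((Proj16.toFunctionField (γ f g U h hh) hz).hom ((pullback.snd f g).stalkMap z a)) =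
        ψ (algebraMap _ Y.functionField a) := fun {z} hz a => by
    rw [RingEquiv.symm_apply_eq, toFF_comp, toFF_congr hsnd, toFF_eq h (h_genericPoint U h), eU_isoFF]
    rfl
  haveI : (pullback f g).IsSeparated := ⟨by
    rw [← terminal.comp_from (pullback.fst f g ≫ f)]; infer_instance⟩
  let Dom : ↥(pullback f g) → Prop := fun z => ∃ hz : γ f g U h hh (genericPoint U) ⤳ z,
    (∀ a, (Proj16.toFunctionField (γ f g U h hh) hz).hom a ∈ valU f U) ∧
      ∀ a ∈ maximalIdeal ((pullback f g).presheaf.stalk z),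
        (Proj16.toFunctionField (γ f g U h hh) hz).hom a ∈ (valU f U).nonunits
  have huniq : ∀ z z', Dom z → Dom z' → z = z' := by
    rintro z z' ⟨hz, h1, h2⟩ ⟨hz', h1', h2'⟩
    exact Proj16.eq_of_dominated (valU f U) _ _
      ((Proj16.specMap_toFunctionField _ hz).trans (Proj16.specMap_toFunctionField _ hz').symm)
      h1 h1' h2 h2'
  have hdomX : ∀ z ∈ Γ, pullback.fst f g z = ξ f → Dom z := fun z hz e => by
    refine ⟨hΓ z hz, dominated f U _ (pullback.fst f g) (hΓ z hz) (fun a => ?_) (fun w hw => ?_)⟩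
    · rw [mem_valU, hA, ← e]; exact ⟨a, rfl⟩
    · rw [mem_valU, ← e] at hw
      obtain ⟨a, ha⟩ := hw
      exact ⟨a, (eU U).symm.injective ((hA _ a).trans ha)⟩
  have hdomY : ∀ z ∈ Γ, pullback.snd f g z = ξ g → Dom z := fun z hz e => by
    refine ⟨hΓ z hz, dominated f U _ (pullback.snd f g) (hΓ z hz) (fun a => ?_) (fun w hw => ?_)⟩
    · rw [mem_valU, hB]; exact hc _ (e ▸ ⟨a, rfl⟩)
    · have h1 := hc' _ ((mem_valU f U).1 hw)
      rw [← e] at h1
      obtain ⟨a, ha⟩ := h1
      refine ⟨a, (eU U).symm.injective ((hB _ a).trans ?_)⟩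
      rw [ha, ψ.apply_symm_apply]
  obtain ⟨z, hz, hzx⟩ := hsur x
  haveI : LocallyOfFiniteType (pullback.fst f g ≫ f) := inferInstance
  haveI : IsLocallyNoetherian (pullback f g) :=
    LocallyOfFiniteType.isLocallyNoetherian (pullback.fst f g ≫ f)
  haveI : CompactSpace ↥(pullback f g) :=
    QuasiCompact.compactSpace_of_compactSpace (pullback.fst f g ≫ f)
  haveI : IsNoetherian (pullback f g) := {}
  let T : Set ↥(pullback f g) := (Γ ∩ pullback.fst f g ⁻¹' {x}) \ {z}
  have hiso : IsClosed T := by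
    rcases eq_or_ne x (ξ f) with hxξ | hxξ
    · have hT : T = ∅ := Set.eq_empty_of_forall_notMem fun w ⟨⟨hw, hwx⟩, hwz⟩ =>
        hwz (huniq w z (hdomX w hw (Eq.trans hwx hxξ)) (hdomX z hz (hzx.trans hxξ)))
      rw [hT]
      exact isClosed_empty
    have hxc := isClosed_of_ne_ξ f hXdim hxs hxξ
    have hcl : ∀ w ∈ Γ ∩ pullback.fst f g ⁻¹' {x}, IsClosed ({w} : Set ↥(pullback f g)) := by
      rintro w ⟨hw, hwx⟩
      refine isClosed_of_fst_snd f g hxc (isClosed_of_ne_ξ g hYdim ?_ fun e => ?_) w hwx rfl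
      · rw [← Scheme.Hom.comp_apply, ← pullback.condition, Scheme.Hom.comp_apply,
          show pullback.fst f g w = x from hwx, hxs]
      · obtain ⟨w', hw', e'⟩ := hsur (ξ f)
        exact hxξ ((hwx.symm.trans (congrArg _ (huniq w w' (hdomY w hw e) (hdomX w' hw' e')))).trans e')
    have hfin := finite_of_forall_isClosed
      (isClosed_closure.inter (hxc.preimage (pullback.fst f g).continuous)) hcl
    rw [← T.biUnion_of_singleton]
    exact (hfin.subset Set.diff_subset).isClosed_biUnion fun w hw => hcl w hw.1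
  haveI := PurIso.isRegularLocalRing_stalk_of_smooth_dvr f x
  haveI := (RegUFD.ufd (X.presheaf.stalk x)).2
  haveI : Nonempty ((⊤ : X.Opens) : Scheme.{u}) := ⟨⟨x, trivial⟩⟩
  haveI : IsIntegral ((⊤ : X.Opens) : Scheme.{u}) := isIntegral_of_isOpenImmersion (⊤ : X.Opens).ι
  refine Rat20Lib.extends_of_isolated f g ⊤ U hdense h hh x trivial inferInstance z hzx hz
    ⟨⟨Tᶜ, hiso.isOpen_compl⟩, ?_⟩
  ext w
  constructor
  · rintro ⟨⟨hw1, hw2⟩, hw3⟩
    by_contra hne
    exact hw1 ⟨⟨hw2, hw3⟩, hne⟩
  · rintro rfl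
    exact ⟨⟨fun hT => hT.2 rfl, hz⟩, hzx⟩

end Groth.Agent.CurveExt
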