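import Groth.Agent.CurveExt.Model
import Groth.Agent.CurveExt.CurveForm

/-!
Regular forms on smooth curves over a discrete valuation ring.
-/

noncomputable section

set_option autoImplicit false
set_option linter.style.haveILetI false
set_option linter.unusedSectionVars false
set_option backward.isDefEq.respectTransparency false
set_option backward.isDefEq.respectTransparency.types false

universe u

open CategoryTheory CategoryTheory.Limits AlgebraicGeometry TopologicalSpace IsLocalRing

namespace Groth.Agent.CurveExt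

section Pull

variable {A B : Scheme.{u}} [IsIntegral A] [IsIntegral B] (h : A ⟶ B) (e : h (genericPoint A) = genericPoint B)

/-- The inclusion of function fields along a dominant map. -/
def ffPull : B.functionField →+* A.functionField :=
  (h.stalkMap (genericPoint A)).hom.comp (B.presheaf.stalkSpecializes (specializes_of_eq e)).hom

theorem ffPull_algebraMap (u : A) (a : B.presheaf.stalk (h u)) :
    ffPull h e (algebraMap (B.presheaf.stalk (h u)) B.functionField a) =
      algebraMap (A.presheaf.stalk u) A.functionField (h.stalkMap u a) := by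
  show h.stalkMap (genericPoint A) (B.presheaf.stalkSpecializes _ (B.presheaf.stalkSpecializes _ a)) =
    A.presheaf.stalkSpecializes _ (h.stalkMap u a)
  rw [← h.stalkSpecializes_stalkMap_apply (genericPoint A) u ((genericPoint_spec A).specializes (Set.mem_univ u)) a]
  refine congrArg _ ?_
  rw [← CommRingCat.comp_apply, TopCat.Presheaf.stalkSpecializes_comp]

theorem ffPull_bijective (hs : Function.Surjective (h.stalkMap (genericPoint A))) :
    Function.Bijective (ffPull h e) := by
  refine ⟨(ffPull h e).injective, fun c => ?_⟩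
  obtain ⟨b, hb⟩ := hs c
  refine ⟨B.presheaf.stalkSpecializes (e ▸ specializes_rfl) b, ?_⟩
  refine Eq.trans (congrArg (h.stalkMap (genericPoint A)).hom ?_) hb
  show B.presheaf.stalkSpecializes _ (B.presheaf.stalkSpecializes _ b) = b
  rw [← CommRingCat.comp_apply, TopCat.Presheaf.stalkSpecializes_comp, TopCat.Presheaf.stalkSpecializes_refl]
  rfl

end Pull

variable {R : Type u} [CommRing R] [IsDomain R] [IsDiscreteValuationRing R] {X : Scheme.{u}}
  (f : X ⟶ Spec (CommRingCat.of R))

theorem st_specializes {x y : X} (h : x ⤳ y) (c : R) :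
    X.presheaf.stalkSpecializes h (st f y c) = st f x c :=
  TopCat.Presheaf.germ_stalkSpecializes_apply (F := X.presheaf) (U := ⊤) (hy := trivial) h _

variable [IsIntegral X]

/-- The function field over the ring. -/
@[reducible] def ffR : Algebra R X.functionField := (st f (genericPoint X)).toAlgebra

/-- The stalks over the ring. -/
@[reducible] def stR (x : X) : Algebra R (X.presheaf.stalk x) := (st f x).toAlgebra

theorem algebraMap_st (x : X) (c : R) :
    algebraMap (X.presheaf.stalk x) X.functionField (st f x c) = st f (genericPoint X) c :=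
  st_specializes f _ c

/-- The local ring of a point inside the function field. -/
def loc (x : X) : Set X.functionField := imSet (F := X.functionField) (X.presheaf.stalk x)

theorem loc_mono {x y : X} (h : x ⤳ y) : loc y ⊆ loc x := by
  rintro _ ⟨a, rfl⟩
  refine ⟨X.presheaf.stalkSpecializes h a, ?_⟩
  show X.presheaf.stalkSpecializes _ (X.presheaf.stalkSpecializes h a) = X.presheaf.stalkSpecializes _ a
  rw [← CommRingCat.comp_apply, TopCat.Presheaf.stalkSpecializes_comp]

/-- Forms regular at every point. -/
def IsForm (w : letI := ffR f; Ω[X.functionField⁄R]) : Prop :=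
  letI := ffR f
  ∀ x : X, w ∈ RegS R (loc x)

variable [IsProper f] [Smooth f]

/-- The stalks are formally smooth and essentially of finite type over the ring. -/
theorem stalk_facts (x : X) :
    letI := stR f x
    Algebra.FormallySmooth R (X.presheaf.stalk x) ∧ Algebra.EssFiniteType R (X.presheaf.stalk x) := by
  obtain ⟨V, hV, hxV, -⟩ := Opens.isBasis_iff_nbhd.mp X.isBasis_affineOpens (Opens.mem_top x)
  have h := HasRingHomProperty.appLE (P := @Smooth) f inferInstance
    ⟨⊤, isAffineOpen_top _⟩ ⟨V, hV⟩ (le_top : V ≤ f ⁻¹ᵁ ⊤)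
  let φ : R →+* Γ(X, V) := (f.appLE ⊤ V le_top).hom.comp (Scheme.ΓSpecIso (CommRingCat.of R)).inv.hom
  have hφ : φ.Smooth := RingHom.Smooth.respectsIso.2 _
    (Scheme.ΓSpecIso (CommRingCat.of R)).symm.commRingCatIsoToRingEquiv h
  letI : Algebra R Γ(X, V) := φ.toAlgebra
  haveI : Algebra.Smooth R Γ(X, V) := hφ
  letI := stR f x
  letI := X.presheaf.algebra_section_stalk ⟨x, hxV⟩
  haveI := hV.isLocalization_stalk ⟨x, hxV⟩
  haveI : IsScalarTower R Γ(X, V) (X.presheaf.stalk x) := IsScalarTower.of_algebraMap_eq fun c =>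
    (X.presheaf.germ_res_apply (homOfLE (le_top : V ≤ ⊤)) x hxV _).symm
  haveI : Algebra.FormallySmooth Γ(X, V) (X.presheaf.stalk x) :=
    Algebra.FormallySmooth.of_isLocalization (hV.primeIdealOf ⟨x, hxV⟩).asIdeal.primeCompl
  haveI : Algebra.EssFiniteType Γ(X, V) (X.presheaf.stalk x) :=
    Algebra.EssFiniteType.of_isLocalization _ (hV.primeIdealOf ⟨x, hxV⟩).asIdeal.primeCompl
  exact ⟨Algebra.FormallySmooth.comp R Γ(X, V) _, Algebra.EssFiniteType.comp R Γ(X, V) _⟩

/-- The differentials of a stalk are free, of the rank of those of the function field. -/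
theorem stalk_kaehler (x : X) :
    letI := stR f x
    letI := ffR f
    Module.Finite (X.presheaf.stalk x) Ω[(X.presheaf.stalk x)⁄R] ∧
      Module.Free (X.presheaf.stalk x) Ω[(X.presheaf.stalk x)⁄R] ∧
      Module.finrank (X.presheaf.stalk x) Ω[(X.presheaf.stalk x)⁄R] =
        Module.finrank X.functionField Ω[X.functionField⁄R] := by
  letI := stR f x
  letI := ffR f
  obtain ⟨_, _⟩ := stalk_facts f x
  haveI : IsScalarTower R (X.presheaf.stalk x) X.functionField :=
    IsScalarTower.of_algebraMap_eq fun c => (algebraMap_st f x c).symm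
  haveI : Module.Finite (X.presheaf.stalk x) Ω[(X.presheaf.stalk x)⁄R] := inferInstance
  haveI : Module.Free (X.presheaf.stalk x) Ω[(X.presheaf.stalk x)⁄R] := Module.free_of_flat_of_isLocalRing
  refine ⟨inferInstance, inferInstance, ?_⟩
  rw [IsLocalization.finrank_eq (R := X.presheaf.stalk x) X.functionField (nonZeroDivisors _) le_rfl,
    IsLocalizedModule.finrank_eq (nonZeroDivisors (X.presheaf.stalk x))
      (KaehlerDifferential.map R R (X.presheaf.stalk x) X.functionField) le_rfl]

variable [GeometricallyConnected f]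
  (hdim : ∀ s : ↥(Spec (CommRingCat.of R)), topologicalKrullDim ↥(f.fiber s) = 1)

attribute [local instance] fibOver

/-- The function field of the generic fibre. -/
def θ : X.functionField →+* (f.fiber (sη R)).functionField := ffPull (f.fiberι (sη R)) (η₀_eq f)

theorem θ_bijective : Function.Bijective (θ f) :=
  ffPull_bijective _ _ ((f.fiberι (sη R)).stalkMap_surjective _)

theorem θ_st (c : R) :
    θ f (st f (genericPoint X) c) =
      Curv2.stalkMap ((Spec (CommRingCat.of R)).residueField (sη R)) (f.fiber (sη R))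
        (genericPoint (f.fiber (sη R))) (res (sη R) c) := by
  rw [← fiberι_stalkMap_st f (sη R) (genericPoint (f.fiber (sη R))) c]
  exact congrArg ((f.fiberι (sη R)).stalkMap (genericPoint (f.fiber (sη R)))).hom
    (st_specializes f (specializes_of_eq (η₀_eq f)) c)

attribute [local instance] CurveFF.ffAlg

/-- The differentials of the generic fibre's function field do not see the base. -/
theorem map_res_bijective :
    letI : Algebra R ((Spec (CommRingCat.of R)).residueField (sη R)) := (res (sη R)).toAlgebra
    letI : Algebra R (f.fiber (sη R)).functionField :=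
      ((algebraMap ((Spec (CommRingCat.of R)).residueField (sη R)) (f.fiber (sη R)).functionField).comp (res (sη R))).toAlgebra
    haveI : IsScalarTower R ((Spec (CommRingCat.of R)).residueField (sη R)) (f.fiber (sη R)).functionField :=
      IsScalarTower.of_algebraMap_eq fun _ => rfl
    Function.Bijective (KaehlerDifferential.map R ((Spec (CommRingCat.of R)).residueField (sη R))
      (f.fiber (sη R)).functionField (f.fiber (sη R)).functionField) := by
  let κ := (Spec (CommRingCat.of R)).residueField (sη R)
  let L := (f.fiber (sη R)).functionField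
  letI : Algebra R κ := (res (sη R)).toAlgebra
  letI : Algebra R L := ((algebraMap κ L).comp (res (sη R))).toAlgebra
  haveI : IsScalarTower R κ L := IsScalarTower.of_algebraMap_eq fun _ => rfl
  have hconst : ∀ c : κ, KaehlerDifferential.D R L (algebraMap κ L c) = 0 := fun c => by
    obtain ⟨a, b, hb, hab⟩ := res_frac (sη R) c
    have h1 := congrArg (fun z => KaehlerDifferential.D R L (algebraMap κ L z)) hab
    simp only [map_mul, Derivation.leibniz] at h1
    rw [show algebraMap κ L (res (sη R) b) = algebraMap R L b from rfl,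
      show algebraMap κ L (res (sη R) a) = algebraMap R L a from rfl,
      Derivation.map_algebraMap, Derivation.map_algebraMap, smul_zero, zero_add] at h1
    refine (smul_eq_zero.1 h1).resolve_left fun h => hb ?_
    exact (res_eq_zero_iff _ b).1 ((map_eq_zero (algebraMap κ L)).1 h)
  letI : Module κ Ω[L⁄R] := Module.compHom _ (algebraMap κ L)
  haveI : IsScalarTower κ L Ω[L⁄R] := ⟨fun c r m => by
    show (c • r) • m = algebraMap κ L c • r • m
    rw [Algebra.smul_def, mul_smul]⟩
  let E : Derivation κ L Ω[L⁄R] :=
    { toFun := fun a => KaehlerDifferential.D R L a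
      map_add' := fun a b => map_add _ a b
      map_smul' := fun c a => by
        show KaehlerDifferential.D R L (c • a) = algebraMap κ L c • KaehlerDifferential.D R L a
        rw [Algebra.smul_def, Derivation.leibniz, hconst, smul_zero, add_zero]
      map_one_eq_zero' := Derivation.map_one_eq_zero _
      leibniz' := fun a b => Derivation.leibniz _ a b }
  refine ⟨fun m m' h => ?_, KaehlerDifferential.map_surjective R κ L⟩
  have key : ∀ m, E.liftKaehlerDifferential (KaehlerDifferential.map R κ L L m) = m := fun m => by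
    have hm : m ∈ Submodule.span L (Set.range (KaehlerDifferential.D R L)) := by
      rw [KaehlerDifferential.span_range_derivation]; trivial
    induction hm using Submodule.span_induction with
    | mem y hy =>
      obtain ⟨b, rfl⟩ := hy
      rw [KaehlerDifferential.map_D]
      exact E.liftKaehlerDifferential_comp_D b
    | zero => simp
    | add a b _ _ ha hb => rw [map_add, map_add, ha, hb]
    | smul r a _ ha => rw [map_smul, map_smul, ha]
  rw [← key m, ← key m', h]

theorem regS_res_lift {A : Set (f.fiber (sη R)).functionField}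
    {w : Ω[(f.fiber (sη R)).functionField⁄(Spec (CommRingCat.of R)).residueField (sη R)]}
    (hw : w ∈ RegS ((Spec (CommRingCat.of R)).residueField (sη R)) A) :
    letI : Algebra R ((Spec (CommRingCat.of R)).residueField (sη R)) := (res (sη R)).toAlgebra
    letI : Algebra R (f.fiber (sη R)).functionField :=
      ((algebraMap ((Spec (CommRingCat.of R)).residueField (sη R)) (f.fiber (sη R)).functionField).comp (res (sη R))).toAlgebra
    haveI : IsScalarTower R ((Spec (CommRingCat.of R)).residueField (sη R)) (f.fiber (sη R)).functionField :=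
      IsScalarTower.of_algebraMap_eq fun _ => rfl
    ∃ v ∈ RegS R A, KaehlerDifferential.map R ((Spec (CommRingCat.of R)).residueField (sη R))
      (f.fiber (sη R)).functionField (f.fiber (sη R)).functionField v = w := by
  let κ := (Spec (CommRingCat.of R)).residueField (sη R)
  let L := (f.fiber (sη R)).functionField
  letI : Algebra R κ := (res (sη R)).toAlgebra
  letI : Algebra R L := ((algebraMap κ L).comp (res (sη R))).toAlgebra
  haveI : IsScalarTower R κ L := IsScalarTower.of_algebraMap_eq fun _ => rfl
  induction hw using AddSubgroup.closure_induction with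
  | mem x hx =>
    obtain ⟨a, ha, b, hb, rfl⟩ := hx
    exact ⟨_, AddSubgroup.subset_closure ⟨a, ha, b, hb, rfl⟩, by rw [map_smul, KaehlerDifferential.map_D]; rfl⟩
  | zero => exact ⟨0, zero_mem _, map_zero _⟩
  | add x y _ _ hx hy =>
    obtain ⟨u, hu, rfl⟩ := hx
    obtain ⟨v, hv, rfl⟩ := hy
    exact ⟨u + v, add_mem hu hv, map_add _ _ _⟩
  | neg x _ hx =>
    obtain ⟨u, hu, rfl⟩ := hx
    exact ⟨-u, neg_mem hu, map_neg _ _⟩

include hdim

/-- The differentials of the function field have rank one. -/
theorem finrank_kaehler : letI := ffR f; Module.finrank X.functionField Ω[X.functionField⁄R] = 1 := by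
  let κ := (Spec (CommRingCat.of R)).residueField (sη R)
  let L := (f.fiber (sη R)).functionField
  letI : Algebra R κ := (res (sη R)).toAlgebra
  letI : Algebra R L := ((algebraMap κ L).comp (res (sη R))).toAlgebra
  haveI : IsScalarTower R κ L := IsScalarTower.of_algebraMap_eq fun _ => rfl
  letI := ffR f
  obtain ⟨e, he0, he⟩ := finrank_eq_one_iff'.1 (SepPt.finrank_omega κ (X := f.fiber (sη R)) (hdim (sη R)))
  let θe : X.functionField ≃ₐ[R] L := AlgEquiv.ofRingEquiv (f := RingEquiv.ofBijective (θ f) (θ_bijective f)) (θ_st f)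
  have hinv : ∀ v : Ω[L⁄R], dmap θe.toAlgHom (dmap θe.symm.toAlgHom v) = v := fun v => by
    have hv : v ∈ Submodule.span L (Set.range (KaehlerDifferential.D R L)) := by
      rw [KaehlerDifferential.span_range_derivation]; trivial
    suffices h : ∀ c : L, dmap θe.toAlgHom (dmap θe.symm.toAlgHom (c • v)) = c • v by simpa using h 1
    induction hv using Submodule.span_induction with
    | mem y hy =>
      obtain ⟨b, rfl⟩ := hy
      intro c
      rw [dmap_smul_D, dmap_smul_D]
      show θe (θe.symm c) • KaehlerDifferential.D R L (θe (θe.symm b)) = _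
      rw [θe.apply_symm_apply, θe.apply_symm_apply]
    | zero => intro c; simp
    | add a b _ _ ha hb => intro c; rw [smul_add, map_add, map_add, ha, hb]
    | smul r a _ ha => intro c; rw [smul_smul, ha]
  have hinv' : ∀ v : Ω[X.functionField⁄R], dmap θe.symm.toAlgHom (dmap θe.toAlgHom v) = v := fun v => by
    have hv : v ∈ Submodule.span X.functionField (Set.range (KaehlerDifferential.D R X.functionField)) := by
      rw [KaehlerDifferential.span_range_derivation]; trivial
    suffices h : ∀ c : X.functionField, dmap θe.symm.toAlgHom (dmap θe.toAlgHom (c • v)) = c • v by simpa using h 1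
    induction hv using Submodule.span_induction with
    | mem y hy =>
      obtain ⟨b, rfl⟩ := hy
      intro c
      rw [dmap_smul_D, dmap_smul_D]
      show θe.symm (θe c) • KaehlerDifferential.D R X.functionField (θe.symm (θe b)) = _
      rw [θe.symm_apply_apply, θe.symm_apply_apply]
    | zero => intro c; simp
    | add a b _ _ ha hb => intro c; rw [smul_add, map_add, map_add, ha, hb]
    | smul r a _ ha => intro c; rw [smul_smul, ha]
  have hsemi : ∀ (c : L) (v : Ω[L⁄R]), dmap θe.symm.toAlgHom (c • v) = θe.symm c • dmap θe.symm.toAlgHom v := fun c v => by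
    letI := θe.symm.toAlgHom.toRingHom.toAlgebra
    haveI : IsScalarTower R L X.functionField :=
      IsScalarTower.of_algebraMap_eq fun r => (θe.symm.commutes r).symm
    show KaehlerDifferential.map R R L X.functionField (c • v) = _
    rw [map_smul]
    exact (algebraMap_smul X.functionField c _).symm
  obtain ⟨hi, hs⟩ := map_res_bijective f
  obtain ⟨e', rfl⟩ := hs e
  refine finrank_eq_one_iff'.2 ⟨dmap θe.symm.toAlgHom e', fun h0 => he0 ?_, fun w => ?_⟩
  · have := congrArg (dmap θe.toAlgHom) h0
    rw [hinv, map_zero] at this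
    rw [this, map_zero]
  · obtain ⟨c, hc⟩ := he (KaehlerDifferential.map R κ L L (dmap θe.toAlgHom w))
    rw [← map_smul] at hc
    refine ⟨θe.symm c, ?_⟩
    rw [← hsemi, hi hc, hinv']

/-- Regularity at the generic fibre and at the generic point of the closed fibre gives regularity everywhere. -/
theorem isForm_of_regular (w : letI := ffR f; Ω[X.functionField⁄R])
    (hU : letI := ffR f; ∀ x : X, f x = sη R → w ∈ RegS R (loc x))
    (hξ : letI := ffR f; w ∈ RegS R (loc (ξ f))) : IsForm f w := by
  letI := ffR f
  intro x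
  rcases eq_sS_or_sη (f x) with hx | hx
  swap
  · exact hU x hx
  by_cases hne : x = ξ f
  · rw [hne]; exact hξ
  have hxc := isClosed_of_ne_ξ f hdim hx hne
  letI := stR f x
  haveI : IsScalarTower R (X.presheaf.stalk x) X.functionField :=
    IsScalarTower.of_algebraMap_eq fun c => (algebraMap_st f x c).symm
  haveI := PurIso.isRegularLocalRing_stalk_of_smooth_dvr f x
  haveI := (RegUFD.ufd (X.presheaf.stalk x)).2
  obtain ⟨_, hfree, hrk⟩ := stalk_kaehler f x
  haveI := hfree
  refine mem_regS_of_forall_prime R (X.presheaf.stalk x) (hrk.trans (finrank_kaehler f hdim)) w fun q hq => ?_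
  obtain ⟨V, hV, hxV, -⟩ := Opens.isBasis_iff_nbhd.mp X.isBasis_affineOpens (Opens.mem_top x)
  letI := X.presheaf.algebra_section_stalk ⟨x, hxV⟩
  haveI := hV.isLocalization_stalk ⟨x, hxV⟩
  haveI hqp : (Ideal.span {q}).IsPrime := (Ideal.span_singleton_prime hq.ne_zero).2 hq
  let P : PrimeSpectrum Γ(X, V) := ⟨(Ideal.span {q}).comap (algebraMap Γ(X, V) (X.presheaf.stalk x)), inferInstance⟩
  let x' : X := hV.fromSpec P
  have hx'V : x' ∈ V := by
    have : x' ∈ Set.range hV.fromSpec := ⟨P, rfl⟩
    rwa [hV.range_fromSpec] at this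
  have hPx' : hV.primeIdealOf ⟨x', hx'V⟩ = P :=
    hV.fromSpec.isOpenEmbedding.injective (hV.fromSpec_primeIdealOf ⟨x', hx'V⟩)
  have hPle : P.asIdeal ≤ (hV.primeIdealOf ⟨x, hxV⟩).asIdeal := fun b hb =>
    (IsLocalization.AtPrime.to_map_mem_maximal_iff (X.presheaf.stalk x) _ b).1
      (IsLocalRing.le_maximalIdeal hqp.ne_top hb)
  have hspec : x' ⤳ x := by
    have h1 := ((PrimeSpectrum.le_iff_specializes P _).1 hPle).map hV.fromSpec.continuous
    erw [hV.fromSpec_primeIdealOf ⟨x, hxV⟩] at h1
    exact h1
  have hne' : x' ≠ x := fun hxx => by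
    have hPeq : P.asIdeal = (hV.primeIdealOf ⟨x, hxV⟩).asIdeal := by
      rw [← hPx']
      exact congrArg (fun v : (V : Set X) => (hV.primeIdealOf v).asIdeal) (Subtype.ext hxx)
    have hqm : Ideal.span {q} = IsLocalRing.maximalIdeal (X.presheaf.stalk x) := by
      refine le_antisymm (IsLocalRing.le_maximalIdeal hqp.ne_top) ?_
      rw [← IsLocalization.AtPrime.map_eq_maximalIdeal (hV.primeIdealOf ⟨x, hxV⟩).asIdeal, Ideal.map_le_iff_le_comap]
      exact hPeq.ge
    have hspξ := ξ_specializes f hdim hx
    let Q := (IsLocalRing.maximalIdeal (X.presheaf.stalk (ξ f))).comap (X.presheaf.stalkSpecializes hspξ).hom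
    haveI : Q.IsPrime := Ideal.comap_isPrime _ _
    obtain ⟨π, hπ⟩ := IsDiscreteValuationRing.exists_irreducible R
    have hπQ : st f x π ∈ Q := by
      show X.presheaf.stalkSpecializes hspξ (st f x π) ∈ IsLocalRing.maximalIdeal (X.presheaf.stalk (ξ f))
      rw [st_specializes, maximalIdeal_ξ f hπ]
      exact Ideal.mem_span_singleton_self _
    have hπ0 : st f x π ≠ 0 := fun h0 => hπ.ne_zero (st_injective_ξ f (by
      rw [map_zero, ← st_specializes f (η₀_specializes f x) π, h0, map_zero]))
    obtain ⟨r, hrQ, hr⟩ := Ideal.IsPrime.exists_mem_prime_of_ne_bot ‹Q.IsPrime›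
      (fun hb => hπ0 (by rw [hb] at hπQ; exact hπQ))
    have hqQ : Ideal.span {q} ≤ Q := by
      have hrq : r ∈ Ideal.span {q} := hqm ▸ (IsLocalRing.mem_maximalIdeal r).2 hr.not_unit
      obtain ⟨c, hc⟩ := Ideal.mem_span_singleton.1 hrq
      rw [Ideal.span_singleton_le_iff_mem]
      rcases hr.irreducible.isUnit_or_isUnit hc with hu | hu
      · exact absurd hu hq.not_unit
      · exact (Ideal.IsPrime.mem_or_mem ‹Q.IsPrime› (hc ▸ hrQ)).resolve_right
          fun h => Ideal.IsPrime.ne_top ‹_› (Ideal.eq_top_of_isUnit_mem _ h hu)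
    have hξV : ξ f ∈ V := hspξ.mem_open V.2 hxV
    refine hne ?_
    refine (hV.fromSpec_primeIdealOf ⟨x, hxV⟩).symm.trans (Eq.trans ?_ (hV.fromSpec_primeIdealOf ⟨ξ f, hξV⟩))
    refine congrArg hV.fromSpec (PrimeSpectrum.ext (le_antisymm (fun b hb => ?_) ?_))
    · letI := X.presheaf.algebra_section_stalk ⟨ξ f, hξV⟩
      haveI := hV.isLocalization_stalk ⟨ξ f, hξV⟩
      refine (IsLocalization.AtPrime.to_map_mem_maximal_iff (X.presheaf.stalk (ξ f))
        (hV.primeIdealOf ⟨ξ f, hξV⟩).asIdeal b).1 ?_
      have h1 : X.presheaf.germ V x hxV b ∈ Q := hqQ (hPeq.ge hb : _)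
      refine Set.mem_of_eq_of_mem ?_ (show X.presheaf.stalkSpecializes hspξ (X.presheaf.germ V x hxV b) ∈ _ from h1)
      exact (TopCat.Presheaf.germ_stalkSpecializes_apply (F := X.presheaf) (hy := hxV) hspξ b).symm
    · refine (PrimeSpectrum.le_iff_specializes _ _).2 ?_
      refine hV.fromSpec.isOpenEmbedding.toIsInducing.specializes_iff.1 ?_
      rw [hV.fromSpec_primeIdealOf, hV.fromSpec_primeIdealOf]
      exact hspξ
  have hwx' : w ∈ RegS R (loc x') := by
    rcases eq_sS_or_sη (f x') with hx' | hx'
    · by_cases hξ' : x' = ξ f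
      · rw [hξ']; exact hξ
      · exact absurd (hspec.mem_closed (isClosed_of_ne_ξ f hdim hx' hξ') rfl).symm hne'
    · exact hU x' hx'
  refine exists_smul_mem_of_den R (X.presheaf.stalk x) hq ?_ hwx'
  rintro _ ⟨z, rfl⟩
  letI := X.presheaf.algebra_section_stalk ⟨x', hx'V⟩
  haveI := hV.isLocalization_stalk ⟨x', hx'V⟩
  obtain ⟨⟨a0, d0⟩, hz⟩ := IsLocalization.surj (hV.primeIdealOf ⟨x', hx'V⟩).asIdeal.primeCompl z
  refine ⟨X.presheaf.germ V x hxV (d0 : Γ(X, V)), fun hd => ?_, X.presheaf.germ V x hxV a0, ?_⟩
  · exact d0.2 ((congrArg PrimeSpectrum.asIdeal hPx').ge (Ideal.mem_span_singleton.2 hd))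
  · have hz' := congrArg (algebraMap (X.presheaf.stalk x') X.functionField) hz
    rw [map_mul] at hz'
    have hg : ∀ b : Γ(X, V), algebraMap (X.presheaf.stalk x) X.functionField (X.presheaf.germ V x hxV b) =
        algebraMap (X.presheaf.stalk x') X.functionField (algebraMap Γ(X, V) (X.presheaf.stalk x') b) := fun b =>
      (TopCat.Presheaf.germ_stalkSpecializes_apply (F := X.presheaf) (hy := hxV) _ b).trans
        (TopCat.Presheaf.germ_stalkSpecializes_apply (F := X.presheaf) (hy := hx'V) _ b).symm
    rw [hg, hg, ← hz', mul_comm]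

/-- A nonzero form exists in positive genus. -/
theorem exists_isForm (n : ℕ) (hn : 1 ≤ n)
    (hgen : Curv2.genus ((Spec (CommRingCat.of R)).residueField (sη R)) (f.fiber (sη R)) = n) :
    letI := ffR f
    ∃ w : Ω[X.functionField⁄R], w ≠ 0 ∧ IsForm f w := by
  let κ := (Spec (CommRingCat.of R)).residueField (sη R)
  let L := (f.fiber (sη R)).functionField
  letI : Algebra R κ := (res (sη R)).toAlgebra
  letI : Algebra R L := ((algebraMap κ L).comp (res (sη R))).toAlgebra
  haveI : IsScalarTower R κ L := IsScalarTower.of_algebraMap_eq fun _ => rfl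
  letI := ffR f
  obtain ⟨w₀, hw₀, hreg⟩ := exists_form κ (f.fiber (sη R)) (hdim (sη R)) (fibre_h0 f (sη R)) (hn.trans_eq hgen.symm)
  let θe : X.functionField ≃ₐ[R] L := AlgEquiv.ofRingEquiv (f := RingEquiv.ofBijective (θ f) (θ_bijective f)) (θ_st f)
  obtain ⟨v, rfl⟩ := (map_res_bijective f).2 w₀
  have hv0 : v ≠ 0 := fun h => hw₀ (by rw [h, map_zero])
  have hvreg : ∀ u : f.fiber (sη R), v ∈ RegS R (imSet (F := L) ((f.fiber (sη R)).presheaf.stalk u)) := fun u => by
    obtain ⟨v', hv', he⟩ := regS_res_lift f (hreg u)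
    exact (map_res_bijective f).1 he ▸ hv'
  let w := dmap θe.symm.toAlgHom v
  have hw0 : w ≠ 0 := fun h => hv0 (by
    have hinv : ∀ y : Ω[L⁄R], dmap θe.toAlgHom (dmap θe.symm.toAlgHom y) = y := fun y => by
      have hy : y ∈ Submodule.span L (Set.range (KaehlerDifferential.D R L)) := by
        rw [KaehlerDifferential.span_range_derivation]; trivial
      suffices h : ∀ c : L, dmap θe.toAlgHom (dmap θe.symm.toAlgHom (c • y)) = c • y by simpa using h 1
      induction hy using Submodule.span_induction with
      | mem z hz =>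
        obtain ⟨b, rfl⟩ := hz
        intro c
        rw [dmap_smul_D, dmap_smul_D]
        show θe (θe.symm c) • KaehlerDifferential.D R L (θe (θe.symm b)) = _
        rw [θe.apply_symm_apply, θe.apply_symm_apply]
      | zero => intro c; simp
      | add a b _ _ ha hb => intro c; rw [smul_add, map_add, map_add, ha, hb]
      | smul r a _ ha => intro c; rw [smul_smul, ha]
    rw [← hinv v]
    show dmap θe.toAlgHom w = 0
    rw [h, map_zero])
  have hwU : ∀ x : X, f x = sη R → w ∈ RegS R (loc x) := fun x hx => by
    obtain ⟨u, rfl⟩ := exists_asFiber f hx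
    refine dmap_mem θe.symm.toAlgHom (fun a ha => ?_) (hvreg u)
    obtain ⟨a, rfl⟩ := ha
    obtain ⟨b, rfl⟩ := (f.fiberι (sη R)).stalkMap_surjective u a
    refine ⟨b, ?_⟩
    show _ = θe.symm _
    rw [eq_comm, AlgEquiv.symm_apply_eq]
    exact (ffPull_algebraMap (f.fiberι (sη R)) (η₀_eq f) u b).symm
  letI := stR f (ξ f)
  haveI : IsScalarTower R (X.presheaf.stalk (ξ f)) X.functionField :=
    IsScalarTower.of_algebraMap_eq fun c => (algebraMap_st f (ξ f) c).symm
  haveI := isDVR_ξ f
  haveI := (stalk_kaehler f (ξ f)).1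
  obtain ⟨π, hπ⟩ := IsDiscreteValuationRing.exists_irreducible R
  have hπξ : Irreducible (st f (ξ f) π) := by
    rw [IsDiscreteValuationRing.irreducible_iff_uniformizer, maximalIdeal_ξ f hπ]
  obtain ⟨N, hN⟩ := exists_pow_smul_mem R (X.presheaf.stalk (ξ f)) hπξ w
  rw [← map_pow, algebraMap_st] at hN
  refine ⟨algebraMap R X.functionField (π ^ N) • w, fun h => ?_, isForm_of_regular f hdim _ (fun x hx => ?_) hN⟩
  · rcases smul_eq_zero.1 h with h1 | h1
    · refine pow_ne_zero N hπ.ne_zero (st_injective_ξ f ?_)
      have h2 : algebraMap (X.presheaf.stalk (η₀ f)) X.functionField (st f (η₀ f) (π ^ N)) = 0 :=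
        (algebraMap_st f _ _).trans h1
      rw [map_zero]
      exact IsFractionRing.injective (X.presheaf.stalk (η₀ f)) X.functionField (h2.trans (map_zero _).symm)
    · exact hw0 h1
  · exact smul_mem_regS R (fun a ha b hb => mul_mem_imSet _ a ha b hb) ⟨st f x (π ^ N), algebraMap_st f x _⟩ (hwU x hx)

end Groth.Agent.CurveExt
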