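import Groth.Agent.CurveExt.Alg
import Groth.Agent.CurveBC.Main
import Groth.Agent.SepPt.Point
import Groth.Agent.PurIso.DvrCore
import Groth.Agent.H23.GysinPb
import Groth.Agent.H9FlatCl.Closure
import Groth.Agent.S17018
import Mathlib.RingTheory.Smooth.Kaehler

/-!
Smooth curves over a discrete valuation ring: points of the closed fibre.
-/

noncomputable section

set_option autoImplicit false
set_option linter.style.haveILetI false
set_option linter.unusedSectionVars false
set_option backward.isDefEq.respectTransparency false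
set_option backward.isDefEq.respectTransparency.types false

universe u

open CategoryTheory CategoryTheory.Limits AlgebraicGeometry TopologicalSpace IsLocalRing

namespace Groth.Agent.CurveExt

variable {R : Type u} [CommRing R] [IsDomain R] [IsDiscreteValuationRing R] {X : Scheme.{u}}
  (f : X ⟶ Spec (CommRingCat.of R))

/-- The stalks as algebras over the ring. -/
def st (x : X) : R →+* X.presheaf.stalk x := (X.presheaf.germ ⊤ x trivial).hom.comp (Coh.toGlobal f)

/-- The closed point. -/
def sS (R : Type u) [CommRing R] [IsLocalRing R] : ↥(Spec (CommRingCat.of R)) := IsLocalRing.closedPoint R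

/-- The generic point. -/
def sη (R : Type u) [CommRing R] [IsDomain R] : ↥(Spec (CommRingCat.of R)) := (⊥ : PrimeSpectrum R)

theorem eq_sS_or_sη (s : ↥(Spec (CommRingCat.of R))) : s = sS R ∨ s = sη R := by
  by_cases h : (s : PrimeSpectrum R).asIdeal = ⊥
  · exact Or.inr (PrimeSpectrum.ext h)
  · exact Or.inl (PrimeSpectrum.ext (IsLocalRing.eq_maximalIdeal
      ((s : PrimeSpectrum R).2.isMaximal h)))

theorem sS_ne_sη : sS R ≠ sη R := fun h => IsDiscreteValuationRing.not_a_field R
  (congrArg PrimeSpectrum.asIdeal h : IsLocalRing.maximalIdeal R = ⊥)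

theorem isClosed_sS : IsClosed ({sS R} : Set ↥(Spec (CommRingCat.of R))) :=
  IsLocalRing.isClosed_singleton_closedPoint R

theorem isOpen_sη : IsOpen ({sη R} : Set ↥(Spec (CommRingCat.of R))) := by
  have h : ({sη R} : Set ↥(Spec (CommRingCat.of R))) = ({sS R} : Set _)ᶜ := by
    ext s
    rcases eq_sS_or_sη s with rfl | rfl
    · simp [sS_ne_sη]
    · simp [(sS_ne_sη (R := R)).symm]
  rw [h]
  exact isClosed_sS.isOpen_compl

/-- The constants in the residue field of a point of the base. -/
def res (s : ↥(Spec (CommRingCat.of R))) : R →+* (Spec (CommRingCat.of R)).residueField s :=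
  ((Spec (CommRingCat.of R)).residue s).hom.comp
    (((Spec (CommRingCat.of R)).presheaf.germ ⊤ s trivial).hom.comp
      (Scheme.ΓSpecIso (CommRingCat.of R)).inv.hom)

theorem res_frac (s : ↥(Spec (CommRingCat.of R))) (c : (Spec (CommRingCat.of R)).residueField s) :
    ∃ a b : R, b ∉ (s : PrimeSpectrum R).asIdeal ∧ c * res s b = res s a := by
  obtain ⟨w, rfl⟩ := Scheme.residue_surjective _ s c
  letI : Algebra R ((Spec (CommRingCat.of R)).presheaf.stalk s) := StructureSheaf.stalkAlgebra R s
  haveI : IsLocalization.AtPrime ((Spec (CommRingCat.of R)).presheaf.stalk s) (s : PrimeSpectrum R).asIdeal :=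
    StructureSheaf.IsLocalization.to_stalk (CommRingCat.of R) s
  have halg : (algebraMap R ((Spec (CommRingCat.of R)).presheaf.stalk s)) =
      ((Scheme.ΓSpecIso (CommRingCat.of R)).inv ≫ (Spec (CommRingCat.of R)).presheaf.germ ⊤ s trivial).hom := rfl
  obtain ⟨⟨a, b⟩, hab⟩ := IsLocalization.surj (s : PrimeSpectrum R).asIdeal.primeCompl w
  refine ⟨a, b, b.2, ?_⟩
  show (Spec (CommRingCat.of R)).residue s w * _ = _
  rw [halg] at hab
  refine Eq.trans ?_ (congrArg ((Spec (CommRingCat.of R)).residue s).hom hab)
  exact (map_mul _ _ _).symm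

theorem res_eq_zero_iff (s : ↥(Spec (CommRingCat.of R))) (a : R) :
    res s a = 0 ↔ a ∈ (s : PrimeSpectrum R).asIdeal := by
  letI : Algebra R ((Spec (CommRingCat.of R)).presheaf.stalk s) := StructureSheaf.stalkAlgebra R s
  haveI : IsLocalization.AtPrime ((Spec (CommRingCat.of R)).presheaf.stalk s) (s : PrimeSpectrum R).asIdeal :=
    StructureSheaf.IsLocalization.to_stalk (CommRingCat.of R) s
  rw [← IsLocalization.AtPrime.to_map_mem_maximal_iff ((Spec (CommRingCat.of R)).presheaf.stalk s)
    (s : PrimeSpectrum R).asIdeal a]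
  exact IsLocalRing.residue_eq_zero_iff _

theorem res_sS_surjective : Function.Surjective (res (sS R)) := by
  intro c
  obtain ⟨a, b, hb, hab⟩ := res_frac (sS R) c
  obtain ⟨b', rfl⟩ := not_not.1 (fun h => hb ((IsLocalRing.mem_maximalIdeal b).2 h)) 
  refine ⟨a * ↑b'⁻¹, ?_⟩
  rw [map_mul, ← hab, mul_assoc, ← map_mul, Units.mul_inv, map_one, mul_one]

attribute [local instance] Curv2.resAlgebra

/-- The fibres over their residue fields. -/
@[reducible] def fibOver (s : ↥(Spec (CommRingCat.of R))) :
    (f.fiber s).Over (Spec (CommRingCat.of ((Spec (CommRingCat.of R)).residueField s))) :=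
  ⟨f.fiberToSpecResidueField s⟩

attribute [local instance] fibOver

theorem fiberι_stalkMap_st (s : ↥(Spec (CommRingCat.of R))) (u : f.fiber s) (c : R) :
    (f.fiberι s).stalkMap u (st f (f.fiberι s u) c) =
      Curv2.stalkMap ((Spec (CommRingCat.of R)).residueField s) (f.fiber s) u (res s c) := by
  show (f.fiberι s).stalkMap u (X.presheaf.germ ⊤ _ _ (f.appTop ((Scheme.ΓSpecIso (CommRingCat.of R)).inv c))) = _
  refine (Scheme.Hom.germ_stalkMap_apply (f.fiberι s) ⊤ u trivial _).trans ?_
  show (f.fiber s).presheaf.germ ⊤ u trivial ((f.fiberι s ≫ f).appTop ((Scheme.ΓSpecIso (CommRingCat.of R)).inv c)) = _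
  have h1 : (f.fiberι s ≫ f).appTop ((Scheme.ΓSpecIso (CommRingCat.of R)).inv c) =
      (f.fiberToSpecResidueField s).appTop (((Spec (CommRingCat.of R)).fromSpecResidueField s).appTop
        ((Scheme.ΓSpecIso (CommRingCat.of R)).inv c)) :=
    congrArg (fun m : f.fiber s ⟶ Spec (CommRingCat.of R) => m.appTop ((Scheme.ΓSpecIso (CommRingCat.of R)).inv c))
      pullback.condition
  have h2 : ((Spec (CommRingCat.of R)).fromSpecResidueField s).appTop ((Scheme.ΓSpecIso (CommRingCat.of R)).inv c) =
      (Scheme.ΓSpecIso ((Spec (CommRingCat.of R)).residueField s)).inv (res s c) := by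
    show (Spec.map ((Spec (CommRingCat.of R)).residue s)).appTop
      (((Spec (CommRingCat.of R)).fromSpecStalk s).appTop ((Scheme.ΓSpecIso (CommRingCat.of R)).inv c)) = _
    rw [Scheme.fromSpecStalk_appTop]
    exact (congrArg (fun m => m ((Spec (CommRingCat.of R)).presheaf.germ ⊤ s trivial
      ((Scheme.ΓSpecIso (CommRingCat.of R)).inv c)))
      (Scheme.ΓSpecIso_inv_naturality ((Spec (CommRingCat.of R)).residue s))).symm
  rw [h1, h2]
  rfl

theorem exists_asFiber {x : X} {s : ↥(Spec (CommRingCat.of R))} (h : f x = s) :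
    ∃ u : f.fiber s, f.fiberι s u = x :=
  (f.range_fiberι s).ge (show x ∈ f ⁻¹' {s} from h)

theorem map_fiberι (s : ↥(Spec (CommRingCat.of R))) (u : f.fiber s) : f (f.fiberι s u) = s :=
  (f.range_fiberι s).le ⟨u, rfl⟩

theorem isClosed_fibre_image {s : ↥(Spec (CommRingCat.of R))} (hs : IsClosed ({s} : Set ↥(Spec (CommRingCat.of R))))
    {u : f.fiber s} (hu : IsClosed ({u} : Set (f.fiber s))) : IsClosed ({f.fiberι s u} : Set X) := by
  have he : Topology.IsClosedEmbedding (f.fiberι s) :=
    ⟨(f.fiberι s).isEmbedding, by rw [f.range_fiberι]; exact hs.preimage f.continuous⟩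
  simpa using he.isClosedMap _ hu

/-- The kernel of restriction to the closed fibre. -/
theorem ker_fiberι_stalkMap {π : R} (hπ : Irreducible π) (u : f.fiber (sS R)) :
    RingHom.ker ((f.fiberι (sS R)).stalkMap u).hom = Ideal.span {st f (f.fiberι (sS R) u) π} := by
  let i := (Spec (CommRingCat.of R)).fromSpecResidueField (sS R)
  let t := pullback.snd f i u
  haveI : IsClosedImmersion i := IsClosedImmersion.of_isPreimmersion i
    (by rw [Scheme.range_fromSpecResidueField]; exact isClosed_sS)
  have hsf : IsField ((Spec ((Spec (CommRingCat.of R)).residueField (sS R))).presheaf.stalk t) := by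
    haveI : Subsingleton ↥(Spec ((Spec (CommRingCat.of R)).residueField (sS R))) :=
      inferInstanceAs (Subsingleton (PrimeSpectrum ((Spec (CommRingCat.of R)).residueField (sS R))))
    refine isField_stalk_of_closure_mem_irreducibleComponents _ t ?_
    rw [show closure ({t} : Set _) = Set.univ from Set.eq_univ_of_forall fun t' => subset_closure (Subsingleton.elim t' t)]
    rw [irreducibleComponents_eq_singleton]
    rfl
  have h3 : RingHom.ker (i.stalkMap t).hom = IsLocalRing.maximalIdeal ((Spec (CommRingCat.of R)).presheaf.stalk (i t)) := by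
    refine le_antisymm (IsLocalRing.le_maximalIdeal (RingHom.ker_ne_top _)) fun a ha => ?_
    letI := hsf.toField
    by_contra hne
    exact ha (IsUnit.of_map (i.stalkMap t).hom a (IsUnit.mk0 _ hne))
  refine (H23.GysinPb.ker_stalkMap_fst f i u).trans ?_
  rw [h3]
  have his : i t = sS R := Scheme.fromSpecResidueField_apply _ _
  letI : Algebra R ((Spec (CommRingCat.of R)).presheaf.stalk (i t)) := StructureSheaf.stalkAlgebra R (i t)
  haveI : IsLocalization.AtPrime ((Spec (CommRingCat.of R)).presheaf.stalk (i t)) (i t : PrimeSpectrum R).asIdeal :=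
    StructureSheaf.IsLocalization.to_stalk (CommRingCat.of R) (i t)
  have halg : (algebraMap R ((Spec (CommRingCat.of R)).presheaf.stalk (i t))) =
      ((Scheme.ΓSpecIso (CommRingCat.of R)).inv ≫ (Spec (CommRingCat.of R)).presheaf.germ ⊤ (i t) trivial).hom := rfl
  rw [← IsLocalization.AtPrime.map_eq_maximalIdeal (i t : PrimeSpectrum R).asIdeal, Ideal.map_map,
    show (i t : PrimeSpectrum R).asIdeal = IsLocalRing.maximalIdeal R from by rw [his]; rfl,
    hπ.maximalIdeal_eq, Ideal.map_span, Set.image_singleton, halg]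
  congr 2
  show (((Scheme.ΓSpecIso (CommRingCat.of R)).inv ≫ (Spec (CommRingCat.of R)).presheaf.germ ⊤ (i t) trivial) ≫
    (Spec (CommRingCat.of R)).presheaf.stalkSpecializes _ ≫ f.stalkMap (pullback.fst f i u)) π = _
  rw [Category.assoc, TopCat.Presheaf.germ_stalkSpecializes_assoc, Scheme.Hom.germ_stalkMap]
  rfl

section Curve

variable [IsProper f] [Smooth f] [GeometricallyConnected f]
  (hdim : ∀ s : ↥(Spec (CommRingCat.of R)), topologicalKrullDim ↥(f.fiber s) = 1)

instance fibre_proper (s : ↥(Spec (CommRingCat.of R))) :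
    IsProper ((f.fiber s) ↘ Spec (CommRingCat.of ((Spec (CommRingCat.of R)).residueField s))) :=
  inferInstanceAs (IsProper (pullback.snd f ((Spec (CommRingCat.of R)).fromSpecResidueField s)))

instance fibre_smooth (s : ↥(Spec (CommRingCat.of R))) :
    Smooth ((f.fiber s) ↘ Spec (CommRingCat.of ((Spec (CommRingCat.of R)).residueField s))) :=
  inferInstanceAs (Smooth (pullback.snd f ((Spec (CommRingCat.of R)).fromSpecResidueField s)))

instance fibre_geomConn (s : ↥(Spec (CommRingCat.of R))) :
    GeometricallyConnected ((f.fiber s) ↘ Spec (CommRingCat.of ((Spec (CommRingCat.of R)).residueField s))) :=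
  inferInstanceAs (GeometricallyConnected (pullback.snd f ((Spec (CommRingCat.of R)).fromSpecResidueField s)))

instance fibre_integral (s : ↥(Spec (CommRingCat.of R))) : IsIntegral (f.fiber s) :=
  CurveStable.isIntegral_of_geometricallyConnected ((Spec (CommRingCat.of R)).residueField s)

theorem fibre_h0 (s : ↥(Spec (CommRingCat.of R))) :
    Module.finrank ((Spec (CommRingCat.of R)).residueField s)
      (Coh.HH (f.fiber s) (Coh.structureModule (f.fiber s)) 0) = 1 :=
  CurveBC.finrank_h0_of_geometricallyConnected ((Spec (CommRingCat.of R)).residueField s) (f.fiber s)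

/-- The generic point of the closed fibre. -/
def ξu : f.fiber (sS R) := genericPoint (f.fiber (sS R))

/-- The generic point of the closed fibre, in the total space. -/
def ξ : X := f.fiberι (sS R) (ξu f)

theorem map_ξ : f (ξ f) = sS R := map_fiberι f _ _

/-- The generic point of the generic fibre, in the total space. -/
def η₀ : X := f.fiberι (sη R) (genericPoint (f.fiber (sη R)))

theorem η₀_specializes (x : X) : η₀ f ⤳ x := by
  obtain ⟨x', hx', hfx'⟩ := Flat.generalizingMap f
    (show (sη R : ↥(Spec (CommRingCat.of R))) ⤳ f x from (PrimeSpectrum.le_iff_specializes _ _).1 bot_le)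
  obtain ⟨u, hu⟩ := exists_asFiber f hfx'
  refine Specializes.trans ?_ hx'
  rw [← hu]
  exact ((genericPoint_spec (f.fiber (sη R))).specializes trivial).map (f.fiberι _).continuous

include f in
theorem isIntegral : IsIntegral X := by
  haveI : IsLocallyNoetherian X := LocallyOfFiniteType.isLocallyNoetherian f
  haveI : IrreducibleSpace X := by
    haveI : PreirreducibleSpace X := by
      refine ⟨?_⟩
      have h : closure ({η₀ f} : Set X) = Set.univ :=
        Set.eq_univ_of_forall fun x => specializes_iff_mem_closure.1 (η₀_specializes f x)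
      rw [← h]
      exact isIrreducible_singleton.isPreirreducible.closure
    exact { toNonempty := ⟨η₀ f⟩ }
  haveI : ∀ y, _root_.IsReduced (X.presheaf.stalk y) := fun y => by
    haveI := PurIso.isRegularLocalRing_stalk_of_smooth_dvr f y
    haveI := (RegUFD.ufd (X.presheaf.stalk y)).1
    infer_instance
  haveI := isReduced_of_isReduced_stalk X
  exact isIntegral_of_irreducibleSpace_of_isReduced X

theorem η₀_eq [IsIntegral X] : η₀ f = genericPoint X :=
  ((η₀_specializes f (genericPoint X)).antisymm ((genericPoint_spec X).specializes trivial)).eq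

theorem map_genericPoint [IsIntegral X] : f (genericPoint X) = sη R := by
  rw [← η₀_eq f]; exact map_fiberι f _ _

theorem st_injective_ξ : Function.Injective (st f (η₀ f)) := by
  refine (injective_iff_map_eq_zero _).2 fun c hc => ?_
  have h := congrArg ((f.fiberι (sη R)).stalkMap (genericPoint (f.fiber (sη R)))).hom hc
  rw [map_zero] at h
  have h2 : res (sη R) c = 0 :=
    (map_eq_zero (Curv2.stalkMap _ (f.fiber (sη R)) (genericPoint (f.fiber (sη R))))).1
      ((fiberι_stalkMap_st f _ _ c).symm.trans h)
  exact Ideal.mem_bot.1 ((res_eq_zero_iff _ c).1 h2)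

/-- The stalk at the generic point of the closed fibre is a discrete valuation ring. -/
theorem maximalIdeal_ξ {π : R} (hπ : Irreducible π) :
    IsLocalRing.maximalIdeal (X.presheaf.stalk (ξ f)) = Ideal.span {st f (ξ f) π} := by
  refine Eq.trans ?_ (ker_fiberι_stalkMap f hπ (ξu f))
  refine (IsLocalRing.eq_maximalIdeal ?_).symm
  letI : Field ((f.fiber (sS R)).presheaf.stalk (ξu f)) := inferInstanceAs (Field (f.fiber (sS R)).functionField)
  exact RingHom.ker_isMaximal_of_surjective _ ((f.fiberι (sS R)).stalkMap_surjective (ξu f))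

theorem isDVR_ξ [IsIntegral X] : IsDiscreteValuationRing (X.presheaf.stalk (ξ f)) := by
  obtain ⟨π, hπ⟩ := IsDiscreteValuationRing.exists_irreducible R
  haveI : IsLocallyNoetherian X := LocallyOfFiniteType.isLocallyNoetherian f
  have hnf : ¬ IsField (X.presheaf.stalk (ξ f)) := fun hf => by
    have h := maximalIdeal_ξ f hπ
    rw [IsLocalRing.isField_iff_maximalIdeal_eq.1 hf, eq_comm, Ideal.span_singleton_eq_bot] at h
    refine hπ.ne_zero (st_injective_ξ f ?_)
    rw [map_zero]
    have h2 := congrArg (X.presheaf.stalkSpecializes (η₀_specializes f (ξ f))) h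
    rw [map_zero] at h2
    refine Eq.trans ?_ h2
    exact (TopCat.Presheaf.germ_stalkSpecializes_apply (F := X.presheaf) (U := ⊤) (hy := trivial)
      (η₀_specializes f (ξ f)) _).symm
  exact ((IsDiscreteValuationRing.TFAE (X.presheaf.stalk (ξ f)) hnf).out 4 0 rfl rfl).1
    ⟨⟨_, maximalIdeal_ξ f hπ⟩⟩

include hdim

/-- Points of the closed fibre other than its generic point are closed. -/
theorem isClosed_of_ne_ξ {x : X} (hx : f x = sS R) (hne : x ≠ ξ f) : IsClosed ({x} : Set X) := by
  obtain ⟨u, rfl⟩ := exists_asFiber f hx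
  refine isClosed_fibre_image f isClosed_sS ?_
  by_contra hu
  haveI := CurveCohLib.isNoetherian_of_proper (k := (Spec (CommRingCat.of R)).residueField (sS R)) (X := f.fiber (sS R))
  exact hne (congrArg (f.fiberι (sS R))
    (CurveCohLib.eq_genericPoint_of_not_isClosed (hdim (sS R)) hu))

/-- Functions integral over the constants on the closed fibre are constants. -/
theorem exists_const_of_isIntegral
    (y : (f.fiber (sS R)).functionField)
    (hy : letI := CurveFF.ffAlg ((Spec (CommRingCat.of R)).residueField (sS R)) (f.fiber (sS R))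
      IsIntegral ((Spec (CommRingCat.of R)).residueField (sS R)) y) :
    ∃ a : (Spec (CommRingCat.of R)).residueField (sS R),
      Curv2.stalkMap _ (f.fiber (sS R)) (genericPoint (f.fiber (sS R))) a = y := by
  let k := (Spec (CommRingCat.of R)).residueField (sS R)
  let C := f.fiber (sS R)
  letI := CurveFF.ffAlg k C
  have hall : ∀ z ∈ (⊤ : C.Opens), CurveCohLib.Polar.InR z y := fun z _ => by
    letI : Algebra k (C.presheaf.stalk z) := (Curv2.stalkMap k C z).toAlgebra
    haveI : IsScalarTower k (C.presheaf.stalk z) C.functionField :=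
      IsScalarTower.of_algebraMap_eq fun c => CurveFF.algebraMap_eq k C z c
    haveI : IsRegularLocalRing (C.presheaf.stalk z) :=
      SmoothReg.isRegularLocalRing_stalk_of_mem_smoothLocus (C ↘ Spec (CommRingCat.of k)) (by
        rw [(Scheme.Hom.smoothLocus_eq_top_iff (f := C ↘ Spec (CommRingCat.of k))).2 inferInstance]
        trivial)
    haveI := (RegUFD.ufd (C.presheaf.stalk z)).2
    obtain ⟨w, hw⟩ := IsIntegrallyClosed.isIntegral_iff.1 (hy.tower_top (A := C.presheaf.stalk z))
    exact ⟨w, hw⟩
  obtain ⟨r, hr⟩ := CurveCohLib.Polar.exists_of_forall_inR hall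
  obtain ⟨a, ha⟩ := (CurveBC.bijective_appTop k C (fibre_h0 f (sS R))).2 r
  refine ⟨(Scheme.ΓSpecIso (CommRingCat.of k)).hom a, ?_⟩
  refine Eq.trans ?_ (hr (x := genericPoint C) trivial)
  show C.presheaf.germ ⊤ _ _ ((C ↘ Spec (CommRingCat.of k)).appTop
    ((Scheme.ΓSpecIso (CommRingCat.of k)).inv ((Scheme.ΓSpecIso (CommRingCat.of k)).hom a))) =
      C.presheaf.germ ⊤ _ _ r
  rw [Iso.hom_inv_id_apply, ha]

/-- Elements algebraic modulo the maximal ideal at the generic point of the closed fibre are constants. -/
theorem exists_const_mod_ξ (a : X.presheaf.stalk (ξ f)) (p : Polynomial R) (hp : p.Monic)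
    (h : p.eval₂ (st f (ξ f)) a ∈ IsLocalRing.maximalIdeal (X.presheaf.stalk (ξ f))) :
    ∃ c : R, a - st f (ξ f) c ∈ IsLocalRing.maximalIdeal (X.presheaf.stalk (ξ f)) := by
  obtain ⟨π, hπ⟩ := IsDiscreteValuationRing.exists_irreducible R
  let k := (Spec (CommRingCat.of R)).residueField (sS R)
  let C := f.fiber (sS R)
  letI := CurveFF.ffAlg k C
  let ρ : X.presheaf.stalk (ξ f) →+* C.functionField := ((f.fiberι (sS R)).stalkMap (ξu f)).hom
  have hker : RingHom.ker ρ = IsLocalRing.maximalIdeal _ :=
    (ker_fiberι_stalkMap f hπ (ξu f)).trans (maximalIdeal_ξ f hπ).symm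
  have hcomp : ρ.comp (st f (ξ f)) = (algebraMap k C.functionField).comp (res (sS R)) :=
    RingHom.ext fun c => fiberι_stalkMap_st f (sS R) (ξu f) c
  have hint : IsIntegral k (ρ a) := by
    refine ⟨p.map (res (sS R)), hp.map _, ?_⟩
    rw [Polynomial.eval₂_map, ← hcomp, ← Polynomial.hom_eval₂]
    rw [← hker] at h
    exact h
  obtain ⟨b, hb⟩ := exists_const_of_isIntegral f hdim (ρ a) hint
  obtain ⟨c, rfl⟩ := res_sS_surjective b
  refine ⟨c, hker ▸ ?_⟩
  show ρ (a - st f (ξ f) c) = 0
  rw [map_sub, ← RingHom.comp_apply, hcomp, sub_eq_zero]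
  exact hb.symm

/-- Residues at closed points of the closed fibre are algebraic over the constants. -/
theorem exists_monic_mem {y : X} (hy : IsClosed ({y} : Set X)) (hfy : f y = sS R) (t : X.presheaf.stalk y) :
    ∃ p : Polynomial R, p.Monic ∧ p.eval₂ (st f y) t ∈ IsLocalRing.maximalIdeal (X.presheaf.stalk y) := by
  obtain ⟨u, rfl⟩ := exists_asFiber f hfy
  have hu : IsClosed ({u} : Set (f.fiber (sS R))) := by
    have := hy.preimage (f.fiberι (sS R)).continuous
    rwa [← Set.image_singleton, Set.preimage_image_eq _ (f.fiberι (sS R)).isEmbedding.injective] at this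
  let k := (Spec (CommRingCat.of R)).residueField (sS R)
  let C := f.fiber (sS R)
  haveI := SepPt.finite_residueField k u hu
  let ρ : X.presheaf.stalk (f.fiberι (sS R) u) →+* C.residueField u :=
    (C.residue u).hom.comp ((f.fiberι (sS R)).stalkMap u).hom
  have hcomp : ρ.comp (st f (f.fiberι (sS R) u)) = (algebraMap k (C.residueField u)).comp (res (sS R)) :=
    RingHom.ext fun c => congrArg (C.residue u).hom (fiberι_stalkMap_st f (sS R) u c)
  have hint : IsIntegral k (ρ t) := IsIntegral.of_finite k _
  obtain ⟨P, hP, -, hPm⟩ := Polynomial.lifts_and_natDegree_eq_and_monic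
    (f := res (sS R)) (p := minpoly k (ρ t))
    ((Polynomial.lifts_iff_coeff_lifts _).2 fun n => res_sS_surjective _) (minpoly.monic hint)
  refine ⟨P, hPm, ?_⟩
  have h0 : ρ (P.eval₂ (st f (f.fiberι (sS R) u)) t) = 0 := by
    rw [Polynomial.hom_eval₂, hcomp, ← Polynomial.eval₂_map, hP]
    exact minpoly.aeval k (ρ t)
  refine (IsLocalRing.mem_maximalIdeal _).2 fun hun => ?_
  exact (hun.map ρ).ne_zero h0

/-- A specialization into the generic point of the closed fibre lies in no closed point. -/
theorem ξ_specializes {x : X} (hx : f x = sS R) : ξ f ⤳ x := by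
  obtain ⟨u, rfl⟩ := exists_asFiber f hx
  exact ((genericPoint_spec (f.fiber (sS R))).specializes trivial).map (f.fiberι _).continuous

theorem not_isClosed_ξ : ¬ IsClosed ({ξ f} : Set X) := fun h => by
  refine CurveEmbed.genericPoint_not_closed (hdim (sS R)) ?_
  have := h.preimage (f.fiberι (sS R)).continuous
  convert this
  ext v
  exact (f.fiberι (sS R)).isEmbedding.injective.eq_iff.symm

end Curve

end Groth.Agent.CurveExt
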